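import Cfsg.Agent.Mrg.Omega.TC.No
import Cfsg.Agent.Mrg.Omega.ML.MinIrr
import Cfsg.Agent.Mrg.Omega.KL.FlagNO
import Cfsg.Agent.Mrg.Omega.KL.TwoS.Ex
import Cfsg.Agent.Mrg.Omega.NOThreeL.RWide.TAct
import Cfsg.Agent.Mrg.Omega.NOThreeL.Merge
import Cfsg.Agent.Mrg.Omega.NO3b.Chain.Group
import Cfsg.Agent.ZN.ChoiceBase
import Mathlib
import Cfsg.Agent.Mrg.Omega.NOThreeL.RWide.TFm
import Cfsg.Agent.Omega.NOThreeL.RWide.TWc

-- merged: Cfsg.Agent.Mrg.Omega.EDel.Bx.ZJBase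
section

section


/-!
# LEMMA ZJ+, base (helper285 #25856 (0), (C), (K3); literal of #26356)

`Y` a K-group with Sylow 2-subgroup `B ≤ D = C_Y(z)`, `X` central in `Y`, `{g ∈ Y | [g, z] ∈ X} = D`,
`N = ⟨z^Y⟩ ≤ Ω₁Z(O₂(Y))`, `LJ O = Ω₁Z(J(O))`.

* `OneB.k3` : `w ∈ N`, `[w, A] ≤ X` for `A` of maximal order in `O₂(D)` ⟹ `[w, A] = 1`;
* `OneB.ex` : `A` is exact on `N`; `OneB.mx`, `OneB.sup_le_o2Y` : `C_A(N) N` is of maximal order and lies in `O₂(Y)`;
* `OneB.LJ_le`, `OneB.N_le_LJ`, `OneB.E_sup`, `OneB.E_cent`, `LJ_norm`, `LJ_le_mem`.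
-/

set_option autoImplicit false
set_option linter.unusedSectionVars false

namespace Cfsg.Agent.Omega.EDel.ZJBase

open Subgroup Cfsg
open Cfsg.Agent.ZN (o2 zc)
open scoped Pointwise
open Cfsg.Agent.ZN.ChoiceSit (Syl o2_le_syl syl_not_dvd)
open Cfsg.Agent.Omega.KL.TwoS (Mx comm_of_sq sq_sup relIndex_le_of_sup)
open Cfsg.Agent.Omega.ML.Final (MLK)
open Cfsg.Agent.Omega.NoFF.Basic (V Z_le_V V_le mem_conj comm_symm)
open Cfsg.Agent.Omega.OM.KTwo (exists_mul_of_mem_sup le_normalizer_V)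
open Cfsg.Agent.MinSimple.VModule (mem_zc zc_le o2_le o2_isPGroup le_o2 le_normalizer_o2 normalizer_le_normalizer_zc)
open Cfsg.Agent.Omega.TC.LemZ (card_eq)

universe u

variable {G : Type u} [Group G] [Finite G]

/-! ### `LJ O = Ω₁Z(J(O))` -/

theorem mem_of_mx {O A : Subgroup G} (hA : Mx O A) {x : G} (h1 : x ∈ O) (h2 : x ^ 2 = 1)
    (h3 : x ∈ centralizer (A : Set G)) : x ∈ A := by
  have h4 : zpowers x ≤ A := by
    refine hA.le_of_comm (zpowers_le.2 h1) ?_ (zpowers_le.2 h3)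
    intro b hb
    obtain ⟨k, rfl⟩ := mem_zpowers_iff.1 hb
    rw [← zpow_natCast, ← zpow_mul, mul_comm, zpow_mul, zpow_natCast, h2, one_zpow]
  exact h4 (mem_zpowers x)

/-- `Ω₁Z(J(O))` -/
def LJ (O : Subgroup G) : Subgroup G where
  carrier := {x | x ∈ O ∧ x ^ 2 = 1 ∧ ∀ A : Subgroup G, Mx O A → x ∈ centralizer (A : Set G)}
  one_mem' := ⟨one_mem _, one_pow _, fun _ _ => one_mem _⟩
  mul_mem' := by
    rintro a b ⟨h1, h2, h3⟩ ⟨k1, k2, k3⟩
    refine ⟨mul_mem h1 k1, ?_, fun A hA => mul_mem (h3 A hA) (k3 A hA)⟩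
    obtain ⟨A, hA⟩ := Mx.exists_mx O
    exact hA.sq _ (mul_mem (mem_of_mx hA h1 h2 (h3 A hA)) (mem_of_mx hA k1 k2 (k3 A hA)))
  inv_mem' := by
    rintro a ⟨h1, h2, h3⟩
    exact ⟨inv_mem h1, by rw [inv_pow, h2, inv_one], fun A hA => inv_mem (h3 A hA)⟩

theorem mem_LJ {O : Subgroup G} {x : G} :
    x ∈ LJ O ↔ x ∈ O ∧ x ^ 2 = 1 ∧ ∀ A : Subgroup G, Mx O A → x ∈ centralizer (A : Set G) := Iff.rfl

theorem LJ_le (O : Subgroup G) : LJ O ≤ O := fun _ h => h.1

theorem LJ_sq {O : Subgroup G} {x : G} (h : x ∈ LJ O) : x ^ 2 = 1 := h.2.1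

theorem LJ_le_mem {O A : Subgroup G} (hA : Mx O A) : LJ O ≤ A := fun _ h => mem_of_mx hA h.1 h.2.1 (h.2.2 A hA)

theorem LJ_norm (O : Subgroup G) : normalizer (O : Set G) ≤ normalizer (LJ O : Set G) := by
  have key : ∀ g ∈ normalizer (O : Set G), ∀ x ∈ LJ O, g * x * g⁻¹ ∈ LJ O := by
    intro g hg x hx
    refine ⟨(mem_normalizer_iff.1 hg x).1 hx.1, ?_, fun A hA => ?_⟩
    · rw [conj_pow, hx.2.1, mul_one, mul_inv_cancel]
    · -- conjugate `A` back
      have hOg : MulAut.conj g⁻¹ • A ≤ O := by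
        intro a ha
        rw [mem_conj, inv_inv] at ha
        exact (mem_normalizer_iff.1 hg a).2 (hA.le ha)
      have h1 := hx.2.2 _ (hA.conj hOg)
      rw [mem_centralizer_iff] at h1 ⊢
      intro a ha
      have h2 : g⁻¹ * a * g ∈ MulAut.conj g⁻¹ • A := by
        rw [mem_conj, inv_inv]
        have e : g * (g⁻¹ * a * g) * g⁻¹ = a := by group
        rw [e]
        exact ha
      have h3 := h1 _ h2
      calc a * (g * x * g⁻¹) = g * ((g⁻¹ * a * g) * x) * g⁻¹ := by group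
        _ = g * (x * (g⁻¹ * a * g)) * g⁻¹ := by rw [h3]
        _ = g * x * g⁻¹ * a := by group
  intro g hg
  rw [mem_normalizer_iff]
  intro x
  refine ⟨key g hg x, fun h => ?_⟩
  have h1 := key g⁻¹ (inv_mem hg) _ h
  have e : g⁻¹ * (g * x * g⁻¹) * g⁻¹⁻¹ = x := by group
  rwa [e] at h1

/-! ### The frame -/

/-- `N = ⟨z^Y⟩` -/
abbrev NZ (z : G) (Y : Subgroup G) : Subgroup G := V (zpowers z) Y

/-- the frame of one block `b` : `Y = C_G(z_a : a ≠ b)`, `X = ⟨z_a : a ≠ b⟩`, `D = C_G(Z_J)`, `z = z_b` -/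
structure OneB (B D Y X : Subgroup G) (z : G) : Prop where
  kg : IsKGroup Y
  syl : Syl B Y
  BD : B ≤ D
  DY : D ≤ Y
  Dz : D ≤ centralizer ({z} : Set G)
  zQ : z ∈ zc (o2 Y)
  XQ : X ≤ zc (o2 Y)
  XY : X ≤ centralizer (Y : Set G)
  st : ∀ g ∈ Y, g * z * g⁻¹ * z⁻¹ ∈ X → g ∈ D

variable {B D Y X : Subgroup G} {z : G}

theorem z_mem_NZ (z : G) (Y : Subgroup G) : z ∈ NZ z Y := by
  have h := Z_le_V (Z := zpowers z) (P := Y) (p := 1) (one_mem _)
  rw [map_one, one_smul] at h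
  exact h (mem_zpowers z)

theorem NZ_le_of {z : G} {Y U : Subgroup G} (h1 : z ∈ U) (h2 : Y ≤ normalizer (U : Set G)) : NZ z Y ≤ U := by
  refine V_le fun p hp => ?_
  intro x hx
  rw [mem_conj] at hx
  have h3 : p⁻¹ * x * p ∈ U := (zpowers_le.2 h1) hx
  have h4 := (mem_normalizer_iff.1 (h2 hp) _).1 h3
  have e : p * (p⁻¹ * x * p) * p⁻¹ = x := by group
  rwa [e] at h4

theorem NZ_norm (z : G) (Y : Subgroup G) : Y ≤ normalizer (NZ z Y : Set G) := le_normalizer_V _ _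

namespace OneB

variable (h : OneB B D Y X z)
include h

theorem mem_D {g : G} (hg : g ∈ Y) (hz : g * z = z * g) : g ∈ D :=
  h.st g hg (by rw [hz, mul_inv_cancel_right, mul_inv_cancel]; exact one_mem _)

theorem Q_le : o2 Y ≤ o2 D :=
  le_o2 ((o2_le_syl h.syl).trans h.BD) (o2_isPGroup _) (h.DY.trans (le_normalizer_o2 Y))

theorem N_le : NZ z Y ≤ zc (o2 Y) :=
  NZ_le_of h.zQ ((le_normalizer_o2 Y).trans (normalizer_le_normalizer_zc _))

theorem N_sq {x : G} (hx : x ∈ NZ z Y) : x ^ 2 = 1 := (mem_zc.1 (h.N_le hx)).2.2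

theorem X_sq {x : G} (hx : x ∈ X) : x ^ 2 = 1 := (mem_zc.1 (h.XQ hx)).2.2

/-- elements of `Y` which centralise `N` modulo `X` centralise `N` -/
theorem ker {g : G} (hg : g ∈ Y) (hN : ∀ x ∈ NZ z Y, g * x * g⁻¹ * x⁻¹ ∈ X) : g ∈ centralizer (NZ z Y : Set G) := by
  have hX : ∀ y ∈ Y, ∀ x ∈ X, y * x * y⁻¹ = x := fun y hy x hx => by
    rw [mem_centralizer_iff.1 (h.XY hx) y hy, mul_inv_cancel_right]
  -- the conjugates of `g` lie in `D`
  have h1 : ∀ y ∈ Y, y⁻¹ * g * y ∈ D := by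
    intro y hy
    refine h.st _ (mul_mem (mul_mem (inv_mem hy) hg) hy) ?_
    have hyz : y * z * y⁻¹ ∈ NZ z Y := (mem_normalizer_iff.1 (NZ_norm z Y hy) z).1 (z_mem_NZ z Y)
    have h2 := hN _ hyz
    have e : y⁻¹ * g * y * z * (y⁻¹ * g * y)⁻¹ * z⁻¹ = y⁻¹ * (g * (y * z * y⁻¹) * g⁻¹ * (y * z * y⁻¹)⁻¹) * y := by
      group
    have h3 := hX y⁻¹ (inv_mem hy) _ h2
    rw [inv_inv] at h3
    rw [e, h3]
    exact h2
  -- `g` centralises all conjugates of `z`
  have h2 : NZ z Y ≤ centralizer ({g} : Set G) := by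
    refine V_le fun p hp => ?_
    intro x hx
    rw [mem_conj] at hx
    have h3 : p⁻¹ * x * p ∈ centralizer ({p⁻¹ * g * p} : Set G) := by
      refine (zpowers_le.2 ?_) hx
      rw [mem_centralizer_singleton_iff]
      exact (mem_centralizer_singleton_iff.1 (h.Dz (h1 p hp))).symm
    rw [mem_centralizer_singleton_iff] at h3 ⊢
    have h4 := congrArg (fun t => p * t * p⁻¹) h3
    calc x * g = p * (p⁻¹ * x * p * (p⁻¹ * g * p)) * p⁻¹ := by group
      _ = p * (p⁻¹ * g * p * (p⁻¹ * x * p)) * p⁻¹ := by rw [h3]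
      _ = g * x := by group
  rw [mem_centralizer_iff]
  exact fun x hx => mem_centralizer_singleton_iff.1 (h2 hx)

/-- `O₂(D) ∩ C(N) ≤ O₂(Y)` -/
theorem cent_le {g : G} (hg : g ∈ o2 D) (hN : g ∈ centralizer (NZ z Y : Set G)) : g ∈ o2 Y := by
  have hYC : Y ≤ normalizer ((Y ⊓ centralizer (NZ z Y : Set G) : Subgroup G) : Set G) := by
    intro y hy
    have hk : ∀ y ∈ Y, ∀ x ∈ Y ⊓ centralizer (NZ z Y : Set G), y * x * y⁻¹ ∈ Y ⊓ centralizer (NZ z Y : Set G) := by
      intro y hy x hx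
      refine mem_inf.2 ⟨mul_mem (mul_mem hy hx.1) (inv_mem hy), ?_⟩
      rw [mem_centralizer_iff]
      intro n hn
      have h1 : y⁻¹ * n * y ∈ NZ z Y := by
        have h2 := (mem_normalizer_iff.1 (NZ_norm z Y (inv_mem hy)) n).1 hn
        rwa [inv_inv] at h2
      have h2 := mem_centralizer_iff.1 hx.2 _ h1
      calc n * (y * x * y⁻¹) = y * (y⁻¹ * n * y * x) * y⁻¹ := by group
        _ = y * (x * (y⁻¹ * n * y)) * y⁻¹ := by rw [h2]
        _ = y * x * y⁻¹ * n := by group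
    rw [mem_normalizer_iff]
    intro x
    refine ⟨hk y hy x, fun h1 => ?_⟩
    have h2 := hk y⁻¹ (inv_mem hy) _ h1
    have e : y⁻¹ * (y * x * y⁻¹) * y⁻¹⁻¹ = x := by group
    rwa [e] at h2
  -- `C_Y(N) ≤ D`
  have hCD : Y ⊓ centralizer (NZ z Y : Set G) ≤ D := fun x hx =>
    h.mem_D hx.1 (mem_centralizer_iff.1 hx.2 z (z_mem_NZ z Y)).symm
  have h1 : g ∈ o2 (Y ⊓ centralizer (NZ z Y : Set G)) := by
    have h2 : o2 D ⊓ centralizer (NZ z Y : Set G) ≤ o2 (Y ⊓ centralizer (NZ z Y : Set G)) := by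
      refine le_o2 (le_inf (inf_le_left.trans ((o2_le D).trans h.DY)) inf_le_right)
        ((o2_isPGroup D).to_le inf_le_left) ?_
      intro x hx
      have hxD := le_normalizer_o2 D (hCD hx)
      have hk : ∀ x ∈ Y ⊓ centralizer (NZ z Y : Set G), ∀ q ∈ o2 D ⊓ centralizer (NZ z Y : Set G),
          x * q * x⁻¹ ∈ o2 D ⊓ centralizer (NZ z Y : Set G) := by
        intro x hx q hq
        exact mem_inf.2 ⟨(mem_normalizer_iff.1 (le_normalizer_o2 D (hCD hx)) q).1 hq.1,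
          mul_mem (mul_mem hx.2 hq.2) (inv_mem hx.2)⟩
      rw [mem_normalizer_iff]
      intro q
      refine ⟨hk x hx q, fun h1 => ?_⟩
      have h2 := hk x⁻¹ (inv_mem hx) _ h1
      have e : x⁻¹ * (x * q * x⁻¹) * x⁻¹⁻¹ = q := by group
      rwa [e] at h2
    exact h2 (mem_inf.2 ⟨hg, hN⟩)
  -- characteristic in a normal subgroup of `Y`
  have h3 : o2 (Y ⊓ centralizer (NZ z Y : Set G)) ≤ o2 Y := by
    refine le_o2 ((o2_le _).trans inf_le_left) (o2_isPGroup _) ?_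
    intro y hy
    exact Cfsg.Agent.Omega.normalizer_le_normalizer_o2' _ (hYC hy)
  exact h3 h1

/-- (ML) on `N X / X` -/
theorem ml (hML : MLK.{u, u}) {A : Subgroup G} (hA : Mx (o2 D) A) {CW : Subgroup G}
    (hCW : ∀ x, x ∈ CW ↔ x ∈ NZ z Y ⊔ X ∧ ∀ a ∈ A, a * x * a⁻¹ * x⁻¹ ∈ X) :
    (A ⊓ centralizer (NZ z Y : Set G)).relIndex A ≤ CW.relIndex (NZ z Y ⊔ X) := by
  have hXc : ∀ y ∈ Y, ∀ x ∈ X, y * x = x * y := fun y hy x hx => mem_centralizer_iff.1 (h.XY hx) y hy
  have hAY : A ≤ Y := hA.le.trans ((o2_le D).trans h.DY)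
  have hNX : NZ z Y ≤ Y := h.N_le.trans ((zc_le _).trans (o2_le Y))
  have hXY' : X ≤ Y := h.XQ.trans ((zc_le _).trans (o2_le Y))
  have hYX : Y ≤ normalizer (X : Set G) := by
    intro y hy
    rw [mem_normalizer_iff]
    intro x
    constructor
    · intro hx
      rw [hXc y hy x hx, mul_inv_cancel_right]
      exact hx
    · intro hx
      have h1 := hXc y⁻¹ (inv_mem hy) _ hx
      have h2 : x = y * x * y⁻¹ := by
        calc x = y⁻¹ * (y * x * y⁻¹) * y := by group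
          _ = y * x * y⁻¹ * y⁻¹ * y := by rw [h1]
          _ = y * x * y⁻¹ := by group
      rw [h2]
      exact hx
  have hW : ∀ x ∈ NZ z Y ⊔ X, ∃ n ∈ NZ z Y, ∃ c ∈ X, x = n * c := fun x hx =>
    exists_mul_of_mem_sup (hXY'.trans (NZ_norm z Y)) hx
  refine hML.grp (C := Y) (W := NZ z Y ⊔ X) (Y := X) (T := B) (Q := o2 D) (A := A) (w := z) h.kg
    { nW := fun y hy => ?_
      nY := hYX
      YW := le_sup_right
      WY := sup_le (hNX.trans hYX) (hXY'.trans hYX)
      sq := fun x hx => ?_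
      mem := mem_sup_left (z_mem_NZ z Y)
      gen := fun U h1 h2 h3 => sup_le (NZ_le_of h1 h3) h2
      TC := h.BD.trans h.DY
      two := h.syl.2.1
      odd := syl_not_dvd h.syl
      fixT := fun t ht => ?_
      QC := (o2_le D).trans h.DY
      Q2 := o2_isPGroup D
      fixQ := fun q hq => ?_
      nrmQ := fun g hg h1 q hq => (mem_normalizer_iff.1 (le_normalizer_o2 D (h.st g hg h1)) q).1 hq
      AQ := hA.le
      Asq := fun a ha x _ => ?_ } (fun a => ?_) hCW
  · -- `Y` normalises `N X`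
    have hk : ∀ y ∈ Y, ∀ x ∈ NZ z Y ⊔ X, y * x * y⁻¹ ∈ NZ z Y ⊔ X := by
      intro y hy x hx
      obtain ⟨n, hn, c, hc, rfl⟩ := hW x hx
      have e : y * (n * c) * y⁻¹ = (y * n * y⁻¹) * (y * c * y⁻¹) := by group
      rw [e]
      exact mul_mem (mem_sup_left ((mem_normalizer_iff.1 (NZ_norm z Y hy) n).1 hn))
        (mem_sup_right ((mem_normalizer_iff.1 (hYX hy) c).1 hc))
    rw [mem_normalizer_iff]
    intro x
    refine ⟨hk y hy x, fun h1 => ?_⟩
    have h2 := hk y⁻¹ (inv_mem hy) _ h1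
    have e : y⁻¹ * (y * x * y⁻¹) * y⁻¹⁻¹ = x := by group
    rwa [e] at h2
  · obtain ⟨n, hn, c, hc, rfl⟩ := hW x hx
    have h1 : c * n = n * c := (hXc n (hNX hn) c hc).symm
    have h2 : n * n = 1 := by rw [← pow_two]; exact h.N_sq hn
    have e : n * c * (n * c) = c * c := by
      calc n * c * (n * c) = n * (c * n) * c := by group
        _ = n * n * (c * c) := by rw [h1]; group
        _ = c * c := by rw [h2, one_mul]
    rw [e]
    exact mul_mem hc hc
  · have h1 : t * z = z * t := mem_centralizer_singleton_iff.1 (h.Dz (h.BD ht))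
    rw [h1, mul_inv_cancel_right, mul_inv_cancel]
    exact one_mem _
  · have h1 : q * z = z * q := mem_centralizer_singleton_iff.1 (h.Dz (o2_le D hq))
    rw [h1, mul_inv_cancel_right, mul_inv_cancel]
    exact one_mem _
  · have h1 : a * a = 1 := by rw [← pow_two]; exact hA.sq a ha
    have e : a * (a * x * a⁻¹) * a⁻¹ * x⁻¹ = 1 := by
      calc a * (a * x * a⁻¹) * a⁻¹ * x⁻¹ = (a * a) * x * (a * a)⁻¹ * x⁻¹ := by group
        _ = 1 := by rw [h1]; group
    rw [e]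
    exact one_mem _
  · rw [mem_inf]
    refine and_congr_right fun ha => ⟨fun h1 x hx => ?_, fun h1 => h.ker (hAY ha) fun x hx => h1 x (mem_sup_left hx)⟩
    obtain ⟨n, hn, c, hc, rfl⟩ := hW x hx
    have h2 : a * n = n * a := (mem_centralizer_iff.1 h1 n hn).symm
    have h3 : a * c = c * a := hXc a (hAY ha) c hc
    have e : a * (n * c) * a⁻¹ * (n * c)⁻¹ = 1 := by
      calc a * (n * c) * a⁻¹ * (n * c)⁻¹ = (a * n) * c * a⁻¹ * c⁻¹ * n⁻¹ := by group
        _ = n * (a * c) * a⁻¹ * c⁻¹ * n⁻¹ := by rw [h2]; group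
        _ = 1 := by rw [h3]; group
    rw [e]
    exact one_mem _

theorem NX_le : NZ z Y ⊔ X ≤ o2 D := sup_le (h.N_le.trans ((zc_le _).trans h.Q_le)) (h.XQ.trans ((zc_le _).trans h.Q_le))

theorem NX_sq : ∀ x ∈ NZ z Y ⊔ X, x ^ 2 = 1 := by
  intro x hx
  have h1 : x ∈ zc (o2 Y) := (sup_le h.N_le h.XQ) hx
  exact (mem_zc.1 h1).2.2

theorem X_cent {A : Subgroup G} (hAY : A ≤ Y) : X ≤ centralizer (A : Set G) := h.XY.trans (centralizer_le hAY)

theorem A_le {A : Subgroup G} (hA : Mx (o2 D) A) : A ≤ Y := hA.le.trans ((o2_le D).trans h.DY)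

/-- `C_A(N X) = C_A(N)` -/
theorem cent_NX {A : Subgroup G} (hA : Mx (o2 D) A) :
    A ⊓ centralizer ((NZ z Y ⊔ X : Subgroup G) : Set G) = A ⊓ centralizer (NZ z Y : Set G) := by
  refine le_antisymm (inf_le_inf_left _ (centralizer_le (le_sup_left : NZ z Y ≤ NZ z Y ⊔ X))) ?_
  refine le_inf inf_le_left ?_
  have h1 : NZ z Y ⊔ X ≤ centralizer ((A ⊓ centralizer (NZ z Y : Set G) : Subgroup G) : Set G) :=
    sup_le (comm_symm inf_le_right) ((h.X_cent (h.A_le hA)).trans (centralizer_le inf_le_left))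
  exact comm_symm h1

theorem mem_Y {x : G} (hx : x ∈ NZ z Y ⊔ X) : x ∈ Y := h.DY (o2_le D (h.NX_le hx))

/-- the elements of `N X` which `A` centralises modulo `X` -/
def CW (A : Subgroup G) : Subgroup G where
  carrier := {x | x ∈ NZ z Y ⊔ X ∧ ∀ a ∈ A, a * x * a⁻¹ * x⁻¹ ∈ X}
  one_mem' := ⟨one_mem _, fun a _ => by simp⟩
  mul_mem' := by
    rintro x y ⟨h1, h2⟩ ⟨k1, k2⟩
    refine ⟨mul_mem h1 k1, fun a ha => ?_⟩
    have h3 : x * (a * y * a⁻¹ * y⁻¹) * x⁻¹ = a * y * a⁻¹ * y⁻¹ := by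
      rw [mem_centralizer_iff.1 (h.XY (k2 a ha)) x (h.mem_Y h1), mul_inv_cancel_right]
    have e : a * (x * y) * a⁻¹ * (x * y)⁻¹ = (a * x * a⁻¹ * x⁻¹) * (x * (a * y * a⁻¹ * y⁻¹) * x⁻¹) := by group
    rw [e, h3]
    exact mul_mem (h2 a ha) (k2 a ha)
  inv_mem' := by
    rintro x ⟨h1, h2⟩
    refine ⟨inv_mem h1, fun a ha => ?_⟩
    have h3 : x⁻¹ * (a * x * a⁻¹ * x⁻¹)⁻¹ * x = (a * x * a⁻¹ * x⁻¹)⁻¹ := by
      have h4 := mem_centralizer_iff.1 (h.XY (inv_mem (h2 a ha))) x⁻¹ (inv_mem (h.mem_Y h1))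
      calc x⁻¹ * (a * x * a⁻¹ * x⁻¹)⁻¹ * x = (a * x * a⁻¹ * x⁻¹)⁻¹ * x⁻¹ * x := by rw [h4]
        _ = (a * x * a⁻¹ * x⁻¹)⁻¹ := by group
    have e : a * x⁻¹ * a⁻¹ * x⁻¹⁻¹ = x⁻¹ * (a * x * a⁻¹ * x⁻¹)⁻¹ * x := by group
    rw [e, h3]
    exact inv_mem (h2 a ha)

theorem relIndex_cent (hML : MLK.{u, u}) {A : Subgroup G} (hA : Mx (o2 D) A) :
    (centralizer (NZ z Y : Set G)).relIndex A ≤ (h.CW A).relIndex (NZ z Y ⊔ X) := by
  have h1 := h.ml hML hA (CW := h.CW A) fun x => Iff.rfl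
  rwa [inf_relIndex_left] at h1

/-- `C_{NX/X}(A)` is the image of `C_{NX}(A)` -/
theorem CW_eq (hML : MLK.{u, u}) {A : Subgroup G} (hA : Mx (o2 D) A) :
    (NZ z Y ⊔ X) ⊓ centralizer (A : Set G) = h.CW A := by
  have hle : (NZ z Y ⊔ X) ⊓ centralizer (A : Set G) ≤ h.CW A := by
    intro x hx
    refine ⟨hx.1, fun a ha => ?_⟩
    rw [mem_centralizer_iff.1 hx.2 a ha, mul_inv_cancel_right, mul_inv_cancel]
    exact one_mem _
  have h1 := hA.thom h.NX_le h.NX_sq
  have h2 : (centralizer ((NZ z Y ⊔ X : Subgroup G) : Set G)).relIndex A = (centralizer (NZ z Y : Set G)).relIndex A := by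
    rw [← inf_relIndex_left A (centralizer ((NZ z Y ⊔ X : Subgroup G) : Set G)), h.cent_NX hA, inf_relIndex_left]
  rw [h2] at h1
  have h3 := h1.trans (h.relIndex_cent hML hA)
  have h4 := card_eq (NZ z Y ⊔ X) (centralizer (A : Set G))
  have h5 := card_eq (NZ z Y ⊔ X) (h.CW A)
  have h6 : (NZ z Y ⊔ X) ⊓ h.CW A = h.CW A := inf_eq_right.2 fun x hx => hx.1
  rw [h6] at h5
  refine Subgroup.eq_of_le_of_card_ge hle ?_
  have p1 : 0 < (h.CW A).relIndex (NZ z Y ⊔ X) := by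
    rcases Nat.eq_zero_or_pos ((h.CW A).relIndex (NZ z Y ⊔ X)) with h0 | h0
    · have p2 : 0 < Nat.card (NZ z Y ⊔ X : Subgroup G) := Nat.card_pos
      rw [h5, h0, mul_zero] at p2
      exact absurd p2 (lt_irrefl 0)
    · exact h0
  apply Nat.le_of_mul_le_mul_right _ p1
  calc Nat.card (h.CW A) * (h.CW A).relIndex (NZ z Y ⊔ X) = Nat.card (NZ z Y ⊔ X : Subgroup G) := h5.symm
    _ = Nat.card ((NZ z Y ⊔ X) ⊓ centralizer (A : Set G) : Subgroup G) *
        (centralizer (A : Set G)).relIndex (NZ z Y ⊔ X) := h4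
    _ ≤ _ := Nat.mul_le_mul_left _ h3

/-- **(K3)** -/
theorem k3 (hML : MLK.{u, u}) {A : Subgroup G} (hA : Mx (o2 D) A) {w : G} (hw : w ∈ NZ z Y)
    (hX : ∀ a ∈ A, a * w * a⁻¹ * w⁻¹ ∈ X) : ∀ a ∈ A, a * w = w * a := by
  have h1 : w ∈ h.CW A := ⟨mem_sup_left hw, hX⟩
  rw [← h.CW_eq hML hA] at h1
  exact fun a ha => mem_centralizer_iff.1 h1.2 a ha

/-- **(NO)** : `A` is exact on `N` -/
theorem ex (hML : MLK.{u, u}) {A : Subgroup G} (hA : Mx (o2 D) A) :
    (centralizer (NZ z Y : Set G)).relIndex A ≤ (centralizer (A : Set G)).relIndex (NZ z Y) := by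
  refine (h.relIndex_cent hML hA).trans ?_
  rw [← h.CW_eq hML hA, inf_relIndex_left]
  refine relIndex_le_of_sup le_sup_left (comm_of_sq h.NX_sq) (sup_le le_sup_left ?_)
  exact (le_inf le_sup_right (h.X_cent (h.A_le hA))).trans le_sup_right

/-- `C_A(N) N` is of maximal order -/
theorem mx (hML : MLK.{u, u}) {A : Subgroup G} (hA : Mx (o2 D) A) :
    Mx (o2 D) (A ⊓ centralizer (NZ z Y : Set G) ⊔ NZ z Y) :=
  hA.sup (le_sup_left.trans h.NX_le) (fun _ hx => h.N_sq hx) (h.ex hML hA)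

theorem sup_le_o2Y {A : Subgroup G} (hA : Mx (o2 D) A) : A ⊓ centralizer (NZ z Y : Set G) ⊔ NZ z Y ≤ o2 Y :=
  sup_le (fun _ hx => h.cent_le (hA.le hx.1) hx.2) (h.N_le.trans (zc_le _))

theorem mxY (hML : MLK.{u, u}) {A : Subgroup G} (hA : Mx (o2 D) A) :
    Mx (o2 Y) (A ⊓ centralizer (NZ z Y : Set G) ⊔ NZ z Y) :=
  ⟨h.sup_le_o2Y hA, (h.mx hML hA).sq, fun C hC hC2 => (h.mx hML hA).max C (hC.trans h.Q_le) hC2⟩

/-- `𝒜(O₂(Y)) ⊆ 𝒜(O₂(D))` -/
theorem mx_of (hML : MLK.{u, u}) {A' : Subgroup G} (hA' : Mx (o2 Y) A') : Mx (o2 D) A' := by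
  obtain ⟨A, hA⟩ := Mx.exists_mx (o2 D)
  have h1 := h.mx hML hA
  exact h1.of_card (hA'.le.trans h.Q_le) hA'.sq (hA'.max _ (h.sup_le_o2Y hA) h1.sq)

theorem LJ_le (hML : MLK.{u, u}) : LJ (o2 D) ≤ LJ (o2 Y) := by
  rintro x ⟨h1, h2, h3⟩
  refine ⟨?_, h2, fun A' hA' => h3 A' (h.mx_of hML hA')⟩
  obtain ⟨A, hA⟩ := Mx.exists_mx (o2 D)
  exact h.cent_le h1 (centralizer_le (le_sup_right : NZ z Y ≤ A ⊓ centralizer (NZ z Y : Set G) ⊔ NZ z Y)
    (h3 _ (h.mx hML hA)))

theorem N_le_LJ : NZ z Y ≤ LJ (o2 Y) := by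
  intro x hx
  have h1 := mem_zc.1 (h.N_le hx)
  exact ⟨h1.1, h1.2.2, fun A hA => mem_centralizer_iff.2 fun a ha => h1.2.1 a (hA.le ha)⟩

theorem E_cent : LJ (o2 Y) ≤ centralizer (NZ z Y : Set G) := by
  intro x hx
  rw [mem_centralizer_iff]
  intro n hn
  exact ((mem_zc.1 (h.N_le hn)).2.1 x hx.1).symm

/-- `E = N C_E(A)` -/
theorem E_sup (hML : MLK.{u, u}) {A : Subgroup G} (hA : Mx (o2 D) A) :
    LJ (o2 Y) ≤ NZ z Y ⊔ (LJ (o2 Y) ⊓ centralizer (A : Set G)) := by
  intro x hx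
  have h1 := LJ_le_mem (h.mxY hML hA) hx
  obtain ⟨c, hc, n, hn, rfl⟩ := exists_mul_of_mem_sup
    ((comm_symm inf_le_right).trans (centralizer_le_normalizer _)) h1
  refine mul_mem (mem_sup_right (mem_inf.2 ⟨?_, hA.comm hc.1⟩)) (mem_sup_left hn)
  have h2 := mul_mem hx (inv_mem (h.N_le_LJ hn))
  rwa [mul_inv_cancel_right] at h2

end OneB

end Cfsg.Agent.Omega.EDel.ZJBase

end

section


/-!
# LEMMA ZJ+(q), base (helper371 #26038 (f1)): the GROUP form of helper8's `EDel/Bx/ZJBase.lean`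

`Y` a K-group with Sylow 2-subgroup `T ≤ D = C_Y(Z₁)`, `X` central in `Y`, `{g ∈ Y | [g, Z₁] ≤ X} = D`,
`N = ⟨Z₁^Y⟩ ≤ Ω₁Z(O₂(Y))`, `LJ O = Ω₁Z(J(O))` (`ZJBase.LJ`).

* `OneF.no` : (NO) on `N X / X` (863's `flag_no` in `Y / X`);
* `OneF.k3` : `w ∈ N`, `[w, A] ≤ X` for `A` of maximal order in `O₂(D)` ⟹ `[w, A] = 1`;
* `OneF.ex` : `A` is exact on `N`; `OneF.mx`, `OneF.sup_le_o2Y` : `C_A(N) N` is of maximal order and lies in `O₂(Y)`;
* `OneF.LJ_le`, `OneF.N_le_LJ`, `OneF.E_sup`, `OneF.E_cent`.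
-/

set_option autoImplicit false
set_option linter.unusedSectionVars false

namespace Cfsg.Agent.Omega.NOThreeL.RWide.ZJQBase

open Subgroup Cfsg
open Cfsg.Agent.ZN (o2 zc)
open Cfsg.Agent.ZN.ChoiceSit (Syl o2_le_syl syl_not_dvd)
open Cfsg.Agent.Omega.EDel.ZJBase (LJ mem_LJ LJ_sq LJ_le_mem LJ_norm)
open Cfsg.Agent.Omega.KL.TwoS (Mx comm_of_sq sq_sup relIndex_le_of_sup relIndex_anti)
open Cfsg.Agent.Omega.ML.Final (MLK)
open Cfsg.Agent.Omega.NoFF.Basic (V Z_le_V V_le mem_conj comm_symm)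
open Cfsg.Agent.Omega.OM.KTwo (exists_mul_of_mem_sup le_normalizer_V)
open Cfsg.Agent.MinSimple.VModule (mem_zc zc_le o2_le o2_isPGroup le_o2 le_normalizer_o2 normalizer_le_normalizer_zc)
open Cfsg.Agent.Omega.TC.LemZ (card_eq le_norm_of)
open Cfsg.Agent.Omega.KL.FlagNO (flag_no flag_inf V_le_of_norm le_V')
open scoped Pointwise

universe u

variable {G : Type u} [Group G] [Finite G]

/-- the frame of one block `b` : `Y = C_G(F_a : a ≠ b)`, `X = ⟨F_a : a ≠ b⟩`, `D = C_G(Ω₁Z(T))`, `Z₁ = F_b` -/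
structure OneF (T D Y X Z₁ : Subgroup G) : Prop where
  kg : IsKGroup Y
  syl : Syl T Y
  TD : T ≤ D
  DY : D ≤ Y
  Dz : D ≤ centralizer (Z₁ : Set G)
  ZQ : Z₁ ≤ zc (o2 Y)
  XQ : X ≤ zc (o2 Y)
  XY : X ≤ centralizer (Y : Set G)
  st : ∀ g ∈ Y, (∀ z ∈ Z₁, g * z * g⁻¹ * z⁻¹ ∈ X) → g ∈ D

variable {T D Y X Z₁ : Subgroup G}

namespace OneF

variable (h : OneF T D Y X Z₁)
include h

theorem mem_D {g : G} (hg : g ∈ Y) (hz : ∀ z ∈ Z₁, g * z = z * g) : g ∈ D :=
  h.st g hg fun z hzZ => by rw [hz z hzZ, mul_inv_cancel_right, mul_inv_cancel]; exact one_mem _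

theorem D_eq : Y ⊓ centralizer (Z₁ : Set G) = D :=
  le_antisymm (fun _ hx => h.mem_D hx.1 fun z hz => (mem_centralizer_iff.1 hx.2 z hz).symm) (le_inf h.DY h.Dz)

theorem Q_le : o2 Y ≤ o2 D :=
  le_o2 ((o2_le_syl h.syl).trans h.TD) (o2_isPGroup _) (h.DY.trans (le_normalizer_o2 Y))

theorem N_le : V Z₁ Y ≤ zc (o2 Y) :=
  V_le_of_norm h.ZQ ((le_normalizer_o2 Y).trans (normalizer_le_normalizer_zc _))

theorem N_sq {x : G} (hx : x ∈ V Z₁ Y) : x ^ 2 = 1 := (mem_zc.1 (h.N_le hx)).2.2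

theorem X_sq {x : G} (hx : x ∈ X) : x ^ 2 = 1 := (mem_zc.1 (h.XQ hx)).2.2

theorem X_comm {y x : G} (hy : y ∈ Y) (hx : x ∈ X) : y * x = x * y := mem_centralizer_iff.1 (h.XY hx) y hy

theorem X_conj {y x : G} (hy : y ∈ Y) (hx : x ∈ X) : y * x * y⁻¹ = x := by
  rw [h.X_comm hy hx, mul_inv_cancel_right]

theorem NY : V Z₁ Y ≤ Y := h.N_le.trans ((zc_le _).trans (o2_le Y))

theorem XleY : X ≤ Y := h.XQ.trans ((zc_le _).trans (o2_le Y))

theorem ZY : Z₁ ≤ Y := h.ZQ.trans ((zc_le _).trans (o2_le Y))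

theorem YX : Y ≤ normalizer (X : Set G) := le_norm_of fun _ hy _ hx => by rw [h.X_conj hy hx]; exact hx

theorem Y_norm_NX : Y ≤ normalizer ((V Z₁ Y ⊔ X : Subgroup G) : Set G) := by
  refine le_norm_of fun c hc x hx => ?_
  obtain ⟨n, hn, e, he, rfl⟩ := exists_mul_of_mem_sup (h.XleY.trans (le_normalizer_V _ _)) hx
  have e1 : c * (n * e) * c⁻¹ = (c * n * c⁻¹) * (c * e * c⁻¹) := by group
  rw [e1, h.X_conj hc he]
  exact mul_mem (mem_sup_left ((mem_normalizer_iff.1 (le_normalizer_V Z₁ Y hc) n).1 hn)) (mem_sup_right he)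

/-- elements of `Y` which centralise `N` modulo `X` centralise `N` -/
theorem ker {g : G} (hg : g ∈ Y) (hN : ∀ x ∈ V Z₁ Y, g * x * g⁻¹ * x⁻¹ ∈ X) : g ∈ centralizer (V Z₁ Y : Set G) := by
  -- the conjugates of `g` lie in `D`
  have h1 : ∀ y ∈ Y, y⁻¹ * g * y ∈ D := by
    intro y hy
    refine h.st _ (mul_mem (mul_mem (inv_mem hy) hg) hy) fun z hz => ?_
    have hyz : y * z * y⁻¹ ∈ V Z₁ Y := (mem_normalizer_iff.1 (le_normalizer_V Z₁ Y hy) z).1 (le_V' Z₁ Y hz)
    have h2 := hN _ hyz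
    have e : y⁻¹ * g * y * z * (y⁻¹ * g * y)⁻¹ * z⁻¹ = y⁻¹ * (g * (y * z * y⁻¹) * g⁻¹ * (y * z * y⁻¹)⁻¹) * y⁻¹⁻¹ := by
      group
    rw [e, h.X_conj (inv_mem hy) h2]
    exact h2
  -- `g` centralises all conjugates of `Z₁`
  have h2 : V Z₁ Y ≤ centralizer ({g} : Set G) := by
    refine V_le fun p hp => ?_
    intro x hx
    rw [mem_conj] at hx
    have h3 := mem_centralizer_iff.1 (h.Dz (h1 p hp)) _ hx
    rw [mem_centralizer_singleton_iff]
    calc x * g = p * (p⁻¹ * x * p * (p⁻¹ * g * p)) * p⁻¹ := by group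
      _ = p * (p⁻¹ * g * p * (p⁻¹ * x * p)) * p⁻¹ := by rw [h3]
      _ = g * x := by group
  rw [mem_centralizer_iff]
  exact fun x hx => mem_centralizer_singleton_iff.1 (h2 hx)

/-- `O₂(D) ∩ C(N) ≤ O₂(Y)` -/
theorem cent_le {g : G} (hg : g ∈ o2 D) (hN : g ∈ centralizer (V Z₁ Y : Set G)) : g ∈ o2 Y := by
  have h1 := flag_inf (H := Y) (Z := Z₁) (B := o2 D) (by rw [h.D_eq])
  exact h1 ⟨hg, hN⟩

theorem NX_le : V Z₁ Y ⊔ X ≤ o2 D :=
  sup_le (h.N_le.trans ((zc_le _).trans h.Q_le)) (h.XQ.trans ((zc_le _).trans h.Q_le))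

theorem NX_sq : ∀ x ∈ V Z₁ Y ⊔ X, x ^ 2 = 1 := fun _ hx => (mem_zc.1 ((sup_le h.N_le h.XQ) hx)).2.2

theorem X_cent {A : Subgroup G} (hAY : A ≤ Y) : X ≤ centralizer (A : Set G) := h.XY.trans (centralizer_le hAY)

theorem mem_Y {x : G} (hx : x ∈ V Z₁ Y ⊔ X) : x ∈ Y := h.DY (o2_le D (h.NX_le hx))

/-- the elements of `N X` which `A` centralises modulo `X` -/
def CW (A : Subgroup G) : Subgroup G where
  carrier := {x | x ∈ V Z₁ Y ⊔ X ∧ ∀ a ∈ A, a * x * a⁻¹ * x⁻¹ ∈ X}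
  one_mem' := ⟨one_mem _, fun a _ => by simp⟩
  mul_mem' := by
    rintro x y ⟨h1, h2⟩ ⟨k1, k2⟩
    refine ⟨mul_mem h1 k1, fun a ha => ?_⟩
    have h3 : x * (a * y * a⁻¹ * y⁻¹) * x⁻¹ = a * y * a⁻¹ * y⁻¹ := h.X_conj (h.mem_Y h1) (k2 a ha)
    have e : a * (x * y) * a⁻¹ * (x * y)⁻¹ = (a * x * a⁻¹ * x⁻¹) * (x * (a * y * a⁻¹ * y⁻¹) * x⁻¹) := by group
    rw [e, h3]
    exact mul_mem (h2 a ha) (k2 a ha)
  inv_mem' := by
    rintro x ⟨h1, h2⟩
    refine ⟨inv_mem h1, fun a ha => ?_⟩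
    have h3 : x⁻¹ * (a * x * a⁻¹ * x⁻¹)⁻¹ * x⁻¹⁻¹ = (a * x * a⁻¹ * x⁻¹)⁻¹ :=
      h.X_conj (inv_mem (h.mem_Y h1)) (inv_mem (h2 a ha))
    have e : a * x⁻¹ * a⁻¹ * x⁻¹⁻¹ = x⁻¹ * (a * x * a⁻¹ * x⁻¹)⁻¹ * x⁻¹⁻¹ := by group
    rw [e, h3]
    exact inv_mem (h2 a ha)

/-- **(NO)** on `N X / X` -/
theorem no (hML : MLK.{u, u}) {A : Subgroup G} (hA : A ≤ o2 D) (hA2 : ∀ a ∈ A, a ^ 2 = 1) :
    (centralizer (V Z₁ Y : Set G)).relIndex A ≤ (h.CW A).relIndex (V Z₁ Y ⊔ X) := by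
  set N : Subgroup G := V Z₁ Y with hN
  have hNC : N ≤ Y := h.NY
  have hZC : Z₁ ≤ Y := h.ZY
  have hEC : X ≤ Y := h.XleY
  have hAC : A ≤ Y := (hA.trans (o2_le _)).trans h.DY
  have hnor : (X.subgroupOf Y).Normal := normal_subgroupOf_of_le_normalizer h.YX
  let π : Y →* Y ⧸ X.subgroupOf Y := QuotientGroup.mk' (X.subgroupOf Y)
  have hπ : Function.Surjective π := QuotientGroup.mk'_surjective _
  have hone : ∀ x y : Y, π x = π y ↔ (x : G) * (y : G)⁻¹ ∈ X := by
    intro x y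
    rw [← mul_inv_eq_one, ← map_inv, ← map_mul, ← MonoidHom.mem_ker, QuotientGroup.ker_mk']
    exact Iff.rfl
  have hcom : ∀ x y : Y, π x * π y = π y * π x ↔ (x : G) * y * (x : G)⁻¹ * (y : G)⁻¹ ∈ X := by
    intro x y
    rw [← map_mul, ← map_mul, hone]
    have e : ((x * y : Y) : G) * ((y * x : Y) : G)⁻¹ = (x : G) * y * (x : G)⁻¹ * (y : G)⁻¹ := by
      push_cast; group
    rw [e]
  set Zb : Subgroup (Y ⧸ X.subgroupOf Y) := (Z₁.subgroupOf Y).map π with hZb
  set Tb : Subgroup (Y ⧸ X.subgroupOf Y) := (T.subgroupOf Y).map π with hTb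
  set Ab : Subgroup (Y ⧸ X.subgroupOf Y) := (A.subgroupOf Y).map π with hAb
  -- `⟨Zb^Y⟩`
  have hV : V Zb (⊤ : Subgroup (Y ⧸ X.subgroupOf Y)) = ((N ⊔ X).subgroupOf Y).map π := by
    apply le_antisymm
    · refine V_le_of_norm ?_ ?_
      · exact map_mono fun z hz => mem_subgroupOf.2 (mem_sup_left ((le_V' Z₁ Y) (mem_subgroupOf.1 hz)))
      · refine le_norm_of fun g _ x hx => ?_
        obtain ⟨c, rfl⟩ := hπ g
        obtain ⟨y, hy, rfl⟩ := hx
        rw [← map_inv, ← map_mul, ← map_mul]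
        exact mem_map_of_mem π (mem_subgroupOf.2 ((mem_normalizer_iff.1 (h.Y_norm_NX c.2) _).1 (mem_subgroupOf.1 hy)))
    · let U : Subgroup G := ((V Zb (⊤ : Subgroup (Y ⧸ X.subgroupOf Y))).comap π).map Y.subtype
      have hU : ∀ x : Y, (x : G) ∈ U ↔ π x ∈ V Zb (⊤ : Subgroup (Y ⧸ X.subgroupOf Y)) := by
        intro x
        constructor
        · rintro ⟨y, hy, hyx⟩
          rw [← (Subtype.ext hyx : y = x)]
          exact hy
        · exact fun hx => ⟨x, hx, rfl⟩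
      have h1 : N ⊔ X ≤ U := by
        refine sup_le (V_le_of_norm (fun z hz => ?_) (le_norm_of fun c hc x hx => ?_)) fun e he => ?_
        · exact (hU ⟨z, hZC hz⟩).2 (le_V' _ _ (mem_map_of_mem π (mem_subgroupOf.2 hz)))
        · obtain ⟨y, hy, rfl⟩ := hx
          have h2 := (mem_normalizer_iff.1 (le_normalizer_V Zb (⊤ : Subgroup (Y ⧸ X.subgroupOf Y))
            (mem_top (π ⟨c, hc⟩))) (π y)).1 hy
          rw [← map_inv, ← map_mul, ← map_mul] at h2
          exact (hU (⟨c, hc⟩ * y * ⟨c, hc⟩⁻¹)).2 h2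
        · refine (hU ⟨e, hEC he⟩).2 ?_
          have h2 : π ⟨e, hEC he⟩ = 1 := by
            rw [← map_one π, hone]
            simpa using he
          rw [h2]
          exact one_mem _
      rintro _ ⟨y, hy, rfl⟩
      exact (hU y).1 (h1 (mem_subgroupOf.1 hy))
  -- centralisers
  have hcZ : centralizer (Zb : Set (Y ⧸ X.subgroupOf Y)) = (D.subgroupOf Y).map π := by
    apply le_antisymm
    · intro g hg
      obtain ⟨c, rfl⟩ := hπ g
      refine mem_map_of_mem π (mem_subgroupOf.2 (h.st c c.2 fun z hz => ?_))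
      have h1 := mem_centralizer_iff.1 hg (π ⟨z, hZC hz⟩) (mem_map_of_mem π (mem_subgroupOf.2 hz))
      exact (hcom c ⟨z, hZC hz⟩).1 h1.symm
    · rintro _ ⟨c, hc, rfl⟩
      rw [mem_centralizer_iff]
      rintro _ ⟨z, hz, rfl⟩
      rw [← map_mul, ← map_mul]
      exact congrArg π (Subtype.ext (mem_centralizer_iff.1 (h.Dz (mem_subgroupOf.1 hc)) z (mem_subgroupOf.1 hz)))
  have key := flag_no hML (H := (⊤ : Subgroup (Y ⧸ X.subgroupOf Y))) (Z := Zb) (T := Tb) (B := Ab)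
    ((h.syl.2.1.comap_of_injective Y.subtype Y.subtype_injective).map π) le_top (by
      rw [relIndex_top_right]
      exact fun h2 => syl_not_dvd h.syl (h2.trans (index_map_dvd _ hπ))) (by
      rw [hcZ]
      exact map_mono fun t ht => mem_subgroupOf.2 (h.TD (mem_subgroupOf.1 ht)))
    (ML.Final.sec_KG.sub _ (ML.Final.sec_KG.quo Y h.kg _) ⊤) (by
      rw [hV]
      rintro _ ⟨x, hx, rfl⟩
      have h1 : x ^ 2 = 1 := Subtype.ext (h.NX_sq x (mem_subgroupOf.1 hx))
      rw [← map_pow, h1, map_one]) (by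
      rw [top_inf_eq, hcZ]
      have h1 : Ab ≤ ((o2 D).subgroupOf Y).map π :=
        map_mono fun a ha => mem_subgroupOf.2 (hA (mem_subgroupOf.1 ha))
      refine h1.trans (le_o2 (map_mono fun a ha => mem_subgroupOf.2 (o2_le _ (mem_subgroupOf.1 ha)))
        (((o2_isPGroup _).comap_of_injective Y.subtype Y.subtype_injective).map π) ?_)
      refine (map_mono ?_).trans (le_normalizer_map π)
      intro c hc
      rw [mem_normalizer_iff]
      intro x
      exact mem_normalizer_iff.1 (le_normalizer_o2 _ (mem_subgroupOf.1 hc)) (x : G)) (by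
      rintro _ ⟨x, hx, rfl⟩
      have h1 : x ^ 2 = 1 := Subtype.ext (hA2 x (mem_subgroupOf.1 hx))
      rw [← map_pow, h1, map_one])
  -- translate
  have e1 : (centralizer (N : Set G)).relIndex A ≤
      (centralizer (V Zb (⊤ : Subgroup (Y ⧸ X.subgroupOf Y)) : Set (Y ⧸ X.subgroupOf Y))).relIndex Ab := by
    rw [hAb, ← relIndex_comap, ← relIndex_subgroupOf hAC]
    rw [← inf_relIndex_left (A.subgroupOf Y)
      ((centralizer (V Zb (⊤ : Subgroup (Y ⧸ X.subgroupOf Y)) : Set (Y ⧸ X.subgroupOf Y))).comap π)]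
    refine relIndex_anti fun c hc => ?_
    refine mem_subgroupOf.2 (h.ker c.2 fun x hx => ?_)
    have h2 : π ⟨x, hNC hx⟩ ∈ V Zb (⊤ : Subgroup (Y ⧸ X.subgroupOf Y)) := by
      rw [hV]
      exact mem_map_of_mem π (mem_subgroupOf.2 (mem_sup_left hx))
    have h3 := mem_centralizer_iff.1 (mem_comap.1 hc.2) _ h2
    exact (hcom c ⟨x, hNC hx⟩).1 h3.symm
  have e2 : (centralizer (Ab : Set (Y ⧸ X.subgroupOf Y))).relIndex
      (V Zb (⊤ : Subgroup (Y ⧸ X.subgroupOf Y))) = (h.CW A).relIndex (N ⊔ X) := by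
    rw [hV, ← relIndex_comap, ← relIndex_subgroupOf (sup_le hNC hEC), ← inf_relIndex_right,
      ← inf_relIndex_right ((h.CW A).subgroupOf Y)]
    congr 1
    ext x
    constructor
    · rintro ⟨h1, h2⟩
      refine ⟨mem_subgroupOf.2 ⟨mem_subgroupOf.1 h2, fun a ha => ?_⟩, h2⟩
      have h3 := mem_centralizer_iff.1 (mem_comap.1 h1) (π ⟨a, hAC ha⟩) (mem_map_of_mem π (mem_subgroupOf.2 ha))
      exact (hcom ⟨a, hAC ha⟩ x).1 h3
    · rintro ⟨h1, h2⟩
      refine ⟨mem_comap.2 (mem_centralizer_iff.2 ?_), h2⟩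
      rintro _ ⟨a, ha, rfl⟩
      exact (hcom a x).2 ((mem_subgroupOf.1 h1).2 a (mem_subgroupOf.1 ha))
  exact (e1.trans key).trans e2.le

variable {A : Subgroup G}

theorem A_le (hA : Mx (o2 D) A) : A ≤ Y := hA.le.trans ((o2_le D).trans h.DY)

/-- `C_A(N X) = C_A(N)` -/
theorem cent_NX (hA : Mx (o2 D) A) :
    A ⊓ centralizer ((V Z₁ Y ⊔ X : Subgroup G) : Set G) = A ⊓ centralizer (V Z₁ Y : Set G) := by
  refine le_antisymm (inf_le_inf_left _ (centralizer_le (le_sup_left : V Z₁ Y ≤ V Z₁ Y ⊔ X))) ?_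
  refine le_inf inf_le_left ?_
  have h1 : V Z₁ Y ⊔ X ≤ centralizer ((A ⊓ centralizer (V Z₁ Y : Set G) : Subgroup G) : Set G) :=
    sup_le (comm_symm inf_le_right) ((h.X_cent (h.A_le hA)).trans (centralizer_le inf_le_left))
  exact comm_symm h1

/-- `C_{NX/X}(A)` is the image of `C_{NX}(A)` -/
theorem CW_eq (hML : MLK.{u, u}) (hA : Mx (o2 D) A) :
    (V Z₁ Y ⊔ X) ⊓ centralizer (A : Set G) = h.CW A := by
  have hle : (V Z₁ Y ⊔ X) ⊓ centralizer (A : Set G) ≤ h.CW A := by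
    intro x hx
    refine ⟨hx.1, fun a ha => ?_⟩
    rw [mem_centralizer_iff.1 hx.2 a ha, mul_inv_cancel_right, mul_inv_cancel]
    exact one_mem _
  have h1 := hA.thom h.NX_le h.NX_sq
  have h2 : (centralizer ((V Z₁ Y ⊔ X : Subgroup G) : Set G)).relIndex A = (centralizer (V Z₁ Y : Set G)).relIndex A := by
    rw [← inf_relIndex_left A (centralizer ((V Z₁ Y ⊔ X : Subgroup G) : Set G)), h.cent_NX hA, inf_relIndex_left]
  rw [h2] at h1
  have h3 := h1.trans (h.no hML hA.le hA.sq)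
  have h4 := card_eq (V Z₁ Y ⊔ X) (centralizer (A : Set G))
  have h5 := card_eq (V Z₁ Y ⊔ X) (h.CW A)
  have h6 : (V Z₁ Y ⊔ X) ⊓ h.CW A = h.CW A := inf_eq_right.2 fun x hx => hx.1
  rw [h6] at h5
  refine Subgroup.eq_of_le_of_card_ge hle ?_
  have p1 : 0 < (h.CW A).relIndex (V Z₁ Y ⊔ X) := by
    rcases Nat.eq_zero_or_pos ((h.CW A).relIndex (V Z₁ Y ⊔ X)) with h0 | h0
    · have p2 : 0 < Nat.card (V Z₁ Y ⊔ X : Subgroup G) := Nat.card_pos
      rw [h5, h0, mul_zero] at p2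
      exact absurd p2 (lt_irrefl 0)
    · exact h0
  apply Nat.le_of_mul_le_mul_right _ p1
  calc Nat.card (h.CW A) * (h.CW A).relIndex (V Z₁ Y ⊔ X) = Nat.card (V Z₁ Y ⊔ X : Subgroup G) := h5.symm
    _ = Nat.card ((V Z₁ Y ⊔ X) ⊓ centralizer (A : Set G) : Subgroup G) *
        (centralizer (A : Set G)).relIndex (V Z₁ Y ⊔ X) := h4
    _ ≤ _ := Nat.mul_le_mul_left _ h3

/-- **(K3)** -/
theorem k3 (hML : MLK.{u, u}) (hA : Mx (o2 D) A) {w : G} (hw : w ∈ V Z₁ Y)
    (hX : ∀ a ∈ A, a * w * a⁻¹ * w⁻¹ ∈ X) : ∀ a ∈ A, a * w = w * a := by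
  have h1 : w ∈ h.CW A := ⟨mem_sup_left hw, hX⟩
  rw [← h.CW_eq hML hA] at h1
  exact fun a ha => mem_centralizer_iff.1 h1.2 a ha

/-- **(NO)** : `A` is exact on `N` -/
theorem ex (hML : MLK.{u, u}) (hA : Mx (o2 D) A) :
    (centralizer (V Z₁ Y : Set G)).relIndex A ≤ (centralizer (A : Set G)).relIndex (V Z₁ Y) := by
  refine (h.no hML hA.le hA.sq).trans ?_
  rw [← h.CW_eq hML hA, inf_relIndex_left]
  refine relIndex_le_of_sup le_sup_left (comm_of_sq h.NX_sq) (sup_le le_sup_left ?_)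
  exact (le_inf le_sup_right (h.X_cent (h.A_le hA))).trans le_sup_right

/-- `C_A(N) N` is of maximal order -/
theorem mx (hML : MLK.{u, u}) (hA : Mx (o2 D) A) : Mx (o2 D) (A ⊓ centralizer (V Z₁ Y : Set G) ⊔ V Z₁ Y) :=
  hA.sup (le_sup_left.trans h.NX_le) (fun _ hx => h.N_sq hx) (h.ex hML hA)

theorem sup_le_o2Y (hA : Mx (o2 D) A) : A ⊓ centralizer (V Z₁ Y : Set G) ⊔ V Z₁ Y ≤ o2 Y :=
  sup_le (fun _ hx => h.cent_le (hA.le hx.1) hx.2) (h.N_le.trans (zc_le _))

theorem mxY (hML : MLK.{u, u}) (hA : Mx (o2 D) A) : Mx (o2 Y) (A ⊓ centralizer (V Z₁ Y : Set G) ⊔ V Z₁ Y) :=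
  ⟨h.sup_le_o2Y hA, (h.mx hML hA).sq, fun C hC hC2 => (h.mx hML hA).max C (hC.trans h.Q_le) hC2⟩

/-- `𝒜(O₂(Y)) ⊆ 𝒜(O₂(D))` -/
theorem mx_of (hML : MLK.{u, u}) {A' : Subgroup G} (hA' : Mx (o2 Y) A') : Mx (o2 D) A' := by
  obtain ⟨A, hA⟩ := Mx.exists_mx (o2 D)
  have h1 := h.mx hML hA
  exact h1.of_card (hA'.le.trans h.Q_le) hA'.sq (hA'.max _ (h.sup_le_o2Y hA) h1.sq)

theorem LJ_le (hML : MLK.{u, u}) : LJ (o2 D) ≤ LJ (o2 Y) := by
  rintro x ⟨h1, h2, h3⟩
  refine ⟨?_, h2, fun A' hA' => h3 A' (h.mx_of hML hA')⟩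
  obtain ⟨A, hA⟩ := Mx.exists_mx (o2 D)
  exact h.cent_le h1 (centralizer_le (le_sup_right : V Z₁ Y ≤ A ⊓ centralizer (V Z₁ Y : Set G) ⊔ V Z₁ Y)
    (h3 _ (h.mx hML hA)))

theorem N_le_LJ : V Z₁ Y ≤ LJ (o2 Y) := by
  intro x hx
  have h1 := mem_zc.1 (h.N_le hx)
  exact ⟨h1.1, h1.2.2, fun A hA => mem_centralizer_iff.2 fun a ha => h1.2.1 a (hA.le ha)⟩

theorem X_le_LJ : X ≤ LJ (o2 Y) := by
  intro x hx
  have h1 := mem_zc.1 (h.XQ hx)
  exact ⟨h1.1, h1.2.2, fun A hA => mem_centralizer_iff.2 fun a ha => h1.2.1 a (hA.le ha)⟩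

theorem E_cent : LJ (o2 Y) ≤ centralizer (V Z₁ Y : Set G) := by
  intro x hx
  rw [mem_centralizer_iff]
  intro n hn
  exact ((mem_zc.1 (h.N_le hn)).2.1 x hx.1).symm

theorem Y_norm_LJ : Y ≤ normalizer (LJ (o2 Y) : Set G) := (le_normalizer_o2 Y).trans (LJ_norm _)

/-- `E = N C_E(A)` -/
theorem E_sup (hML : MLK.{u, u}) (hA : Mx (o2 D) A) :
    LJ (o2 Y) ≤ V Z₁ Y ⊔ (LJ (o2 Y) ⊓ centralizer (A : Set G)) := by
  intro x hx
  have h1 := LJ_le_mem (h.mxY hML hA) hx
  obtain ⟨c, hc, n, hn, rfl⟩ := exists_mul_of_mem_sup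
    ((comm_symm inf_le_right).trans (centralizer_le_normalizer _)) h1
  refine mul_mem (mem_sup_right (mem_inf.2 ⟨?_, hA.comm hc.1⟩)) (mem_sup_left hn)
  have h2 := mul_mem hx (inv_mem (h.N_le_LJ hn))
  rwa [mul_inv_cancel_right] at h2

end OneF

end Cfsg.Agent.Omega.NOThreeL.RWide.ZJQBase

end

end

-- merged: Cfsg.Agent.Mrg.Omega.NOThreeL.RWide.ParT.EndA
section

section


/-!
# THEOREM PAR_T (helper971 #26838), step (6): the end of case (alpha)

Over `Tf S V N l`; `T = TT S N`, `F b = C_(l b)(T)`, `D = C_G(Ω₁Z(T))`, `O = O₂(D)`, `X_j = YY F j`.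

* `Tf.syl_YY`, `Tf.fix_of` : `T` is Sylow in `X_j`; `N_(X_j)(T)` fixes all blocks;
* `Tf.mem_all_of` : `P ≤ X_j`, `P ≤ N_G(B)` normalises all blocks;
* `Tf.J_le` : `N_G(J(O)) ≤ N_G(R)`;
* `Tf.norm_of_R` : `P ∈ 𝒫(T)`, `P ≤ X_j ∩ N_G(R)` moves `F j`: `P` normalises all blocks;
* **`Tf.end_alpha`** : `P ∈ 𝒫(T)`, `P ≤ X_j ∩ N_G(l j)` moves `F j`: `P` normalises all blocks.
-/

set_option autoImplicit false
set_option linter.unusedSectionVars false

namespace Cfsg.Agent.Omega.NOThreeL.RWide.TAct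

open Subgroup Cfsg Cfsg.Agent.Omega.MinPar
open Cfsg.Agent.ZN (zc o2 jj)
open Cfsg.Agent.ZN.ChoiceBase (cj cj_mono cj_inf cj_centralizer cj_eq_of_mem_normalizer mem_cj mem_normalizer_iff_cj
  cj_cj_inv cj_inv_cj cj_cj cj_one mem_zc isPGroup_cj card_cj AA jj_eq jj_le jj_eq_of_jj_le jj_cj normalizer_le_of_cj)
open Cfsg.Agent.MinSimple.MinParabolic (IsMinPar le_of_forall)
open Cfsg.Agent.MinSimple.VModule (zc_le normalizer_le_normalizer_zc le_centralizer_zc le_normalizer_o2 o2_isPGroup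
  le_o2 o2_le o2_le_of_sylow)
open Cfsg.Agent.Omega.NoFF.Basic (comm_symm)
open Cfsg.Agent.Omega.EDel.ThmU (sylow_of_two)

universe u v

variable {G : Type u} [Group G] {ι : Type v}

/-- `O₂(C_G(Ω₁Z(T)))` -/
abbrev OT [Finite G] (T : Subgroup G) : Subgroup G := o2 (centralizer (zc T : Set G))

namespace Tf

variable [Finite G] [Finite ι] [Nonempty ι] {S : Sylow 2 G} {V : Subgroup G} {N l : ι → Subgroup G} (h : Tf S V N l)
include h

theorem hTF (i : ι) : TT (S : Subgroup G) N ≤ centralizer (FF (S : Subgroup G) N l i : Set G) :=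
  comm_symm inf_le_right

theorem T_le_YY (j : ι) : TT (S : Subgroup G) N ≤ YY (FF (S : Subgroup G) N l) j := le_YY fun i _ => h.hTF i

/-- a permutation of the blocks by an element of `X_j` is trivial -/
theorem perm_eq {j : ι} {x : G} (hx : x ∈ YY (FF (S : Subgroup G) N l) j) {σ : Equiv.Perm ι}
    (hσ : ∀ b, cj x (N b) = N (σ b)) (b : ι) : σ b = b := by
  have h1 : ∀ b, b ≠ j → σ b = b := by
    intro b hb
    by_contra hne
    apply h.ne b
    rw [eq_bot_iff, ← TBits.dis_of h.ind b (σ b) (Ne.symm hne)]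
    refine le_inf (h.F_le_N b) ?_
    have h2 := cj_mono x (h.F_le_N b)
    rwa [cj_eq_of_mem_normalizer (centralizer_le_normalizer _ (YY_le_cent hb hx)), hσ b] at h2
  by_cases hb : b = j
  · subst hb
    by_contra hne
    exact hne (σ.injective (h1 _ hne))
  · exact h1 b hb

/-- `N_(X_j)(T)` fixes all the lines and blocks -/
theorem fix_of {j : ι} {x : G} (hx : x ∈ YY (FF (S : Subgroup G) N l) j)
    (hxT : x ∈ normalizer (TT (S : Subgroup G) N : Set G)) (b : ι) :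
    cj x (FF (S : Subgroup G) N l b) = FF (S : Subgroup G) N l b ∧ cj x (N b) = N b ∧ cj x (l b) = l b := by
  obtain ⟨σ, hσ⟩ := h.NT' x hxT
  have h1 := h.perm_eq hx (fun b => (hσ b).2.1) b
  have h2 := hσ b
  rwa [h1] at h2

/-- `T` is Sylow in `X_j` -/
theorem syl_YY (j : ι) : ¬ 2 ∣ (TT (S : Subgroup G) N).relIndex (YY (FF (S : Subgroup G) N l) j) :=
  sylow_of_two h.T2 (h.T_le_YY j) fun g hg h2 => h.ker g hg.2 h2 fun i => (h.fix_of hg.1 hg.2 i).1

theorem syl_sub {j : ι} {P : Subgroup G} (hTP : TT (S : Subgroup G) N ≤ P)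
    (hP : P ≤ YY (FF (S : Subgroup G) N l) j) : ¬ 2 ∣ (TT (S : Subgroup G) N).relIndex P := fun h1 => by
  apply h.syl_YY j
  rw [← relIndex_mul_relIndex _ P _ hTP hP]
  exact h1.mul_right _

/-- a subgroup of `X_j ∩ N_G(B)` normalises all blocks -/
theorem mem_all_of {j : ι} {P : Subgroup G} (hP : P ≤ YY (FF (S : Subgroup G) N l) j)
    (hPB : P ≤ normalizer (BB (S : Subgroup G) l : Set G)) (b : ι) :
    P ≤ normalizer (N b : Set G) ∧ P ≤ normalizer (l b : Set G) := by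
  have key : ∀ p ∈ P, cj p (l b) = l b ∧ cj p (N b) = N b := by
    intro p hp
    obtain ⟨σ, hσ⟩ := h.exists_perm (hPB hp) (h.B_le (hPB hp))
    have h1 := h.perm_eq (hP hp) (fun b => (hσ b).2) b
    have h2 := hσ b
    rwa [h1] at h2
  exact ⟨fun p hp => mem_normalizer_iff_cj.2 (key p hp).2, fun p hp => mem_normalizer_iff_cj.2 (key p hp).1⟩

/-- `P ∈ 𝒫(T)` in `X_j ∩ N_G(R)` which moves `F j` normalises `B` -/
theorem le_nB {j : ι} {P : Subgroup G} (hP : IsMinPar (TT (S : Subgroup G) N) P)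
    (hPX : P ≤ YY (FF (S : Subgroup G) N l) j) (hPR : P ≤ normalizer ((⨆ b, l b : Subgroup G) : Set G))
    (hm : ¬ P ≤ centralizer (FF (S : Subgroup G) N l j : Set G)) :
    P ≤ normalizer (BB (S : Subgroup G) l : Set G) := by
  have hs := h.syl_sub hP.le hPX
  have hC : P ≤ normalizer ((centralizer ((⨆ b, l b : Subgroup G) : Set G) : Subgroup G) : Set G) := by
    intro g hg
    rw [mem_normalizer_iff_cj, cj_centralizer, cj_eq_of_mem_normalizer (hPR hg)]
  have hn : P ≤ normalizer ((P ⊓ centralizer ((⨆ b, l b : Subgroup G) : Set G) : Subgroup G) : Set G) := by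
    intro g hg
    rw [mem_normalizer_iff_cj, cj_inf, cj_eq_of_mem_normalizer (Subgroup.le_normalizer hg),
      cj_eq_of_mem_normalizer (hC hg)]
  rcases hP.sup_eq_or_inf_le h.T2 hs inf_le_left hn with h1 | h1
  · exfalso
    apply hm
    rw [← h1]
    refine sup_le (inf_le_right.trans (centralizer_le ?_)) (h.hTF j)
    exact (h.F_le_l j).trans (le_iSup l j)
  · have h2 : BB (S : Subgroup G) l = o2 P ⊓ centralizer ((⨆ b, l b : Subgroup G) : Set G) := by
      apply le_antisymm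
      · refine le_inf (le_trans ?_ h1) inf_le_right
        exact le_inf h.BT (le_inf (h.BT.trans hP.le) inf_le_right)
      · refine le_inf ((inf_le_left.trans (o2_le_of_sylow h.T2 hs)).trans inf_le_left) inf_le_right
    rw [h2]
    intro g hg
    rw [mem_normalizer_iff_cj, cj_inf, cj_eq_of_mem_normalizer (le_normalizer_o2 _ hg),
      cj_eq_of_mem_normalizer (hC hg)]

/-- `P ∈ 𝒫(T)` in `X_j ∩ N_G(R)` which moves `F j` normalises all blocks -/
theorem norm_of_R {j : ι} {P : Subgroup G} (hP : IsMinPar (TT (S : Subgroup G) N) P)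
    (hPX : P ≤ YY (FF (S : Subgroup G) N l) j) (hPR : P ≤ normalizer ((⨆ b, l b : Subgroup G) : Set G))
    (hm : ¬ P ≤ centralizer (FF (S : Subgroup G) N l j : Set G)) (b : ι) : P ≤ normalizer (N b : Set G) :=
  (h.mem_all_of hPX (h.le_nB hP hPX hPR hm) b).1

omit [Finite ι] [Nonempty ι] in
/-- `Ω₁Z(S) ≤ Ω₁Z(T)` -/
theorem Z_le_zcT : zc (S : Subgroup G) ≤ zc (TT (S : Subgroup G) N) := by
  intro x hx
  obtain ⟨hxS, hx2, hxc⟩ := mem_zc.1 hx
  exact mem_zc.2 ⟨h.BT (h.RB (h.ZR hx)), hx2, fun y hy => hxc y hy.1⟩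

omit [Finite ι] in
/-- `J(O) ≠ 1` -/
theorem J_ne : jj (OT (TT (S : Subgroup G) N)) ≠ ⊥ := by
  refine Cfsg.Agent.Omega.ESym.CoreS.jj_ne_bot (o2_isPGroup _) fun e => ?_
  apply h.ne (Classical.arbitrary ι)
  rw [eq_bot_iff, ← e]
  refine (h.F_le _).trans (le_o2 (fun x hx => ?_) (h.T2.to_le (zc_le _)) ?_)
  · rw [mem_centralizer_iff]
    exact fun y hy => ((mem_zc.1 hx).2.2 y (zc_le _ hy))
  · exact (centralizer_le_normalizer _)

omit [Finite ι] [Nonempty ι] in
/-- `S` normalises `J(O)` -/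
theorem S_norm_J : (S : Subgroup G) ≤ normalizer (jj (OT (TT (S : Subgroup G) N)) : Set G) := by
  intro s hs
  have h1 : cj s (zc (TT (S : Subgroup G) N)) = zc (TT (S : Subgroup G) N) :=
    cj_eq_of_mem_normalizer (normalizer_le_normalizer_zc _ (h.ST hs))
  have h2 : s ∈ normalizer ((centralizer (zc (TT (S : Subgroup G) N) : Set G) : Subgroup G) : Set G) := by
    rw [mem_normalizer_iff_cj, cj_centralizer, h1]
  have h3 := Cfsg.Agent.Omega.normalizer_le_normalizer_o2' _ h2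
  exact normalizer_le_of_cj (F := jj) jj_cj _ h3

/-- **`N_G(J(O)) ≤ N_G(R)`** -/
theorem J_le (AJ : jj (OT (TT (S : Subgroup G) N)) ≤ centralizer ((⨆ b, l b : Subgroup G) : Set G))
    (CJ : V ⊓ centralizer (jj (OT (TT (S : Subgroup G) N)) : Set G) ≤ ⨆ b, l b)
    (I1s : centralizer (zc (S : Subgroup G) : Set G) ≤ normalizer ((⨆ b, l b : Subgroup G) : Set G)) :
    normalizer (jj (OT (TT (S : Subgroup G) N)) : Set G) ≤ normalizer ((⨆ b, l b : Subgroup G) : Set G) := by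
  refine le_of_forall h.S_norm_J ?_ fun R hR hRN => ?_
  · exact inf_le_right.trans (h.nS_nB.trans h.nB_nR)
  · rcases h.par R (h.isPar_of hR ((o2_isPGroup _).to_le (jj_le _)) h.J_ne hRN) with h1 | h1
    · exact h1.trans I1s
    · intro r hr
      have e : (⨆ b, l b) = V ⊓ centralizer (jj (OT (TT (S : Subgroup G) N)) : Set G) :=
        le_antisymm (le_inf h.RV (comm_symm AJ)) CJ
      rw [mem_normalizer_iff_cj, e, cj_inf, cj_eq_of_mem_normalizer (h1 hr), cj_centralizer,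
        cj_eq_of_mem_normalizer (hRN hr)]

/-- `P ≤ X_j ∩ N_G(l j)` normalises `J(O)` -/
theorem le_nJ (AJ : jj (OT (TT (S : Subgroup G) N)) ≤ centralizer ((⨆ b, l b : Subgroup G) : Set G))
    (pl : ∀ c ∈ centralizer (zc (S : Subgroup G) : Set G), ∀ b, ∃ b', cj c (l b) = l b') {j : ι}
    {P : Subgroup G} (hPX : P ≤ YY (FF (S : Subgroup G) N l) j) (hPl : P ≤ normalizer (l j : Set G)) :
    P ≤ normalizer (jj (OT (TT (S : Subgroup G) N)) : Set G) := by
  set T := TT (S : Subgroup G) N with hT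
  set D := centralizer (zc T : Set G) with hD
  set D' : Subgroup G := centralizer (l j : Set G) ⊓ YY (FF (S : Subgroup G) N l) j with hD'
  -- `D` centralises the `F b`
  have hDF : ∀ b, D ≤ centralizer (FF (S : Subgroup G) N l b : Set G) := fun b => centralizer_le (h.F_le b)
  have hDY : D ≤ YY (FF (S : Subgroup G) N l) j := le_YY fun b _ => hDF b
  have hD'D : D' ≤ D := by
    have h1 : zc T ≤ centralizer (D' : Set G) := h.zcT.trans (iSup_le fun b => by
      by_cases hb : b = j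
      · rw [hb]
        exact comm_symm ((inf_le_left : D' ≤ _).trans (centralizer_le (h.F_le_l j)))
      · exact comm_symm ((inf_le_right : D' ≤ _).trans (YY_le_cent hb)))
    exact comm_symm h1
  -- `D` normalises `l j`
  have hDl : D ≤ normalizer (l j : Set G) := by
    intro d hd
    obtain ⟨b, hb⟩ := pl d (centralizer_le h.Z_le_zcT hd) j
    have h1 : b = j := by
      by_contra hne
      apply h.ne j
      rw [eq_bot_iff, ← TBits.dis_of h.ind j b (Ne.symm hne)]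
      refine le_inf (h.F_le_N j) ?_
      have h2 := cj_mono d (h.F_le_l j)
      rw [cj_eq_of_mem_normalizer (centralizer_le_normalizer _ (hDF j hd)), hb] at h2
      exact h2.trans (h.lN b)
    rw [h1] at hb
    exact mem_normalizer_iff_cj.2 hb
  have hDn : D ≤ normalizer (D' : Set G) := by
    intro d hd
    rw [mem_normalizer_iff_cj, hD', cj_inf, cj_centralizer, cj_eq_of_mem_normalizer (hDl hd),
      cj_eq_of_mem_normalizer (Subgroup.le_normalizer (hDY hd))]
  have hPn : P ≤ normalizer (D' : Set G) := by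
    intro d hd
    rw [mem_normalizer_iff_cj, hD', cj_inf, cj_centralizer, cj_eq_of_mem_normalizer (hPl hd),
      cj_eq_of_mem_normalizer (Subgroup.le_normalizer (hPX hd))]
  -- `O₂(D') ≤ O`, `J(O) ≤ O₂(D')`
  have h1 : o2 D' ≤ OT T :=
    le_o2 ((o2_le _).trans hD'D) (o2_isPGroup _) fun d hd =>
      Cfsg.Agent.Omega.normalizer_le_normalizer_o2' _ (hDn hd)
  have h2 : jj (OT T) ≤ o2 D' := by
    have h3 : jj (OT T) ≤ D' := le_inf (AJ.trans (centralizer_le (le_iSup l j)))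
      (((jj_le _).trans (o2_le _)).trans hDY)
    have h4 : (OT T ⊓ D' : Subgroup G) ≤ o2 D' := by
      refine le_o2 inf_le_right ((o2_isPGroup _).to_le inf_le_left) fun d hd => ?_
      rw [mem_normalizer_iff_cj, cj_inf, cj_eq_of_mem_normalizer (le_normalizer_o2 _ (hD'D hd)),
        cj_eq_of_mem_normalizer (Subgroup.le_normalizer hd)]
    exact (le_inf (jj_le _) h3).trans h4
  have h5 : jj (o2 D') = jj (OT T) := jj_eq_of_jj_le h2 h1
  rw [← h5]
  intro p hp
  exact normalizer_le_of_cj (F := jj) jj_cj _ (Cfsg.Agent.Omega.normalizer_le_normalizer_o2' _ (hPn hp))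

/-- **The end of case (alpha).** -/
theorem end_alpha (AJ : jj (OT (TT (S : Subgroup G) N)) ≤ centralizer ((⨆ b, l b : Subgroup G) : Set G))
    (CJ : V ⊓ centralizer (jj (OT (TT (S : Subgroup G) N)) : Set G) ≤ ⨆ b, l b)
    (pl : ∀ c ∈ centralizer (zc (S : Subgroup G) : Set G), ∀ b, ∃ b', cj c (l b) = l b') {j : ι}
    {P : Subgroup G} (hP : IsMinPar (TT (S : Subgroup G) N) P) (hPX : P ≤ YY (FF (S : Subgroup G) N l) j)
    (hPl : P ≤ normalizer (l j : Set G)) (hm : ¬ P ≤ centralizer (FF (S : Subgroup G) N l j : Set G)) (b : ι) :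
    P ≤ normalizer (N b : Set G) := by
  refine h.norm_of_R hP hPX ((h.le_nJ AJ pl hPX hPl).trans (h.J_le AJ CJ ?_)) hm b
  intro c hc
  refine Cfsg.Agent.ZN.ChoiceBase.mem_normalizer_of_cj_le ?_
  rw [cj, Subgroup.map_iSup]
  refine iSup_le fun b => ?_
  obtain ⟨b', hb'⟩ := pl c hc b
  exact (le_of_eq hb').trans (le_iSup l b')

end Tf

end Cfsg.Agent.Omega.NOThreeL.RWide.TAct

end

section


/-!
# UNI_T, CASE 1 (helper995 #27055, PART N): `J(O) ≤ O₂(R)`

`R ∈ 𝒫(T)`, `R ≤ Y_j` moves `F j`; `D = C_G(Ω₁Z(T))`, `O = O₂(D)`, `Z_J = ∏ l b`, `D_J = C_G(Z_J)`.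

* `mx_iff`, `LJ_eq` : for `D_J ≤ D' ≤ N_G(Z_J)` with `O₂(D') ≤ T` the groups `O₂(D')`, `O₂(D_J)` have the same elementary
  abelian subgroups of maximal order;
* `case_one_abs`, **`Tf.case_one`** : if all of these (for `O`) are in `O₂(R)` then `R` normalises `Z_J` and all blocks.
-/

set_option autoImplicit false
set_option linter.unusedSectionVars false

namespace Cfsg.Agent.Omega.NOThreeL.RWide.UniT

open Subgroup Cfsg Cfsg.Agent.Omega.MinPar
open Cfsg.Agent.ZN (zc zl o2)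
open Cfsg.Agent.ZN.ChoiceBase (cj cj_mono cj_inf cj_centralizer cj_eq_of_mem_normalizer mem_normalizer_iff_cj mem_zc)
open Cfsg.Agent.ZN.ChoiceSit (Syl o2_le_syl syl_not_dvd)
open Cfsg.Agent.MinSimple.MinParabolic (IsMinPar)
open Cfsg.Agent.MinSimple.VModule (zc_le normalizer_le_normalizer_zc le_centralizer_zc le_normalizer_o2 o2_isPGroup
  le_o2 o2_le zl_le_zc zc_le_zl zc_le_zc_o2 le_normalizer_centralizer_zl)
open Cfsg.Agent.Omega.KL.TwoS (Mx)
open Cfsg.Agent.Omega.EDel.ZJBase (LJ LJ_norm mem_LJ)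
open Cfsg.Agent.Omega.NOThreeL.RWide.TAct (TT BB Tf)
open Cfsg.Agent.Omega.EDel.ThmU (XF)

universe u v

variable {G : Type u} [Group G]

theorem norm_cent {Z : Subgroup G} : normalizer (Z : Set G) ≤ normalizer ((centralizer (Z : Set G) : Subgroup G) : Set G) := by
  intro g hg
  rw [mem_normalizer_iff_cj, cj_centralizer, cj_eq_of_mem_normalizer hg]

variable [Finite G]

/-- `O₂(D_J) ≤ O₂(D')` -/
theorem o2_le_of {ZJ D' : Subgroup G} (DJ : centralizer (ZJ : Set G) ≤ D') (Dn : D' ≤ normalizer (ZJ : Set G)) :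
    o2 (centralizer (ZJ : Set G)) ≤ o2 D' :=
  le_o2 ((o2_le _).trans DJ) (o2_isPGroup _)
    ((Dn.trans norm_cent).trans (Cfsg.Agent.Omega.normalizer_le_normalizer_o2' _))

/-- the same elementary abelian subgroups of maximal order -/
theorem mx_iff {T V ZJ D' A : Subgroup G} (DJ : centralizer (ZJ : Set G) ≤ D') (Dn : D' ≤ normalizer (ZJ : Set G))
    (OT : o2 D' ≤ T) (hV : V ≤ o2 (centralizer (ZJ : Set G))) (Vsq : ∀ v ∈ V, v ^ 2 = 1)
    (off : ∀ A : Subgroup G, A ≤ T → (∀ a ∈ A, a ^ 2 = 1) →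
      (centralizer (A : Set G)).relIndex V ≤ (centralizer (V : Set G)).relIndex A → A ≤ centralizer (ZJ : Set G)) :
    Mx (o2 D') A ↔ Mx (o2 (centralizer (ZJ : Set G))) A := by
  have h1 := o2_le_of DJ Dn
  have h2 : ∀ A : Subgroup G, Mx (o2 D') A → Mx (o2 (centralizer (ZJ : Set G))) A := by
    intro A hA
    have h3 : A ≤ centralizer (ZJ : Set G) := off A (hA.le.trans OT) hA.sq (hA.thom (hV.trans h1) Vsq)
    have h4 : o2 D' ⊓ centralizer (ZJ : Set G) ≤ o2 (centralizer (ZJ : Set G)) := by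
      refine le_o2 inf_le_right ((o2_isPGroup _).to_le inf_le_left) fun d hd => ?_
      rw [mem_normalizer_iff_cj, cj_inf, cj_eq_of_mem_normalizer (le_normalizer_o2 _ (DJ hd)),
        cj_eq_of_mem_normalizer (Subgroup.le_normalizer hd)]
    exact ⟨(le_inf hA.le h3).trans h4, hA.sq, fun B hB hB2 => hA.max B (hB.trans h1) hB2⟩
  refine ⟨h2 A, fun hA => ?_⟩
  obtain ⟨A', hA'⟩ := Mx.exists_mx (o2 D')
  exact hA'.of_card (hA.le.trans h1) hA.sq (hA.max A' (h2 A' hA').le hA'.sq)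

/-- `Ω₁Z(J(O₂(D'))) ≤ Ω₁Z(J(O₂(D_J)))` and conversely -/
theorem LJ_eq {T V ZJ D' : Subgroup G} (DJ : centralizer (ZJ : Set G) ≤ D') (Dn : D' ≤ normalizer (ZJ : Set G))
    (OT : o2 D' ≤ T) (hV : V ≤ o2 (centralizer (ZJ : Set G))) (Vsq : ∀ v ∈ V, v ^ 2 = 1)
    (off : ∀ A : Subgroup G, A ≤ T → (∀ a ∈ A, a ^ 2 = 1) →
      (centralizer (A : Set G)).relIndex V ≤ (centralizer (V : Set G)).relIndex A → A ≤ centralizer (ZJ : Set G)) :
    LJ (o2 D') = LJ (o2 (centralizer (ZJ : Set G))) := by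
  have h1 := o2_le_of DJ Dn
  have hm : ∀ A : Subgroup G, Mx (o2 D') A ↔ Mx (o2 (centralizer (ZJ : Set G))) A := fun A =>
    mx_iff DJ Dn OT hV Vsq off
  ext x
  rw [mem_LJ, mem_LJ]
  constructor
  · rintro ⟨hx, hx2, hxc⟩
    refine ⟨?_, hx2, fun A hA => hxc A ((hm A).2 hA)⟩
    obtain ⟨A, hA⟩ := Mx.exists_mx (o2 D')
    exact ((hm A).1 hA).le (Cfsg.Agent.Omega.EDel.ZJBase.LJ_le_mem hA (mem_LJ.2 ⟨hx, hx2, hxc⟩))
  · rintro ⟨hx, hx2, hxc⟩
    exact ⟨h1 hx, hx2, fun A hA => hxc A ((hm A).1 hA)⟩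

/-- **CASE 1, abstract.** -/
theorem case_one_abs {T R V ZJ F : Subgroup G} (hTR : Syl T R) (hP : IsMinPar T R)
    (hc : R ⊓ centralizer (o2 R : Set G) ≤ o2 R) (sylD : Syl T (centralizer (zc T : Set G)))
    (ZJT : ZJ ≤ T) (ZJc : ZJ ≤ centralizer (ZJ : Set G)) (zcB : zc (T ⊓ centralizer (ZJ : Set G)) ≤ ZJ)
    (zTJ : zc T ≤ ZJ) (DN : centralizer (zc T : Set G) ≤ normalizer (ZJ : Set G)) (FZ : F ≤ zc T)
    (hRF : ¬ R ≤ centralizer (F : Set G)) (hV : V ≤ o2 (centralizer (ZJ : Set G))) (Vsq : ∀ v ∈ V, v ^ 2 = 1)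
    (off : ∀ A : Subgroup G, A ≤ T → (∀ a ∈ A, a ^ 2 = 1) →
      (centralizer (A : Set G)).relIndex V ≤ (centralizer (V : Set G)).relIndex A → A ≤ centralizer (ZJ : Set G))
    (lam : LJ (o2 (centralizer (ZJ : Set G))) = ZJ) (UO : zl T R ≤ o2 (centralizer (zc T : Set G)))
    (hJ : ∀ A : Subgroup G, Mx (o2 (centralizer (zc T : Set G))) A → A ≤ o2 R) :
    R ≤ normalizer (ZJ : Set G) := by
  have hT2 := hTR.2.1
  have hs := syl_not_dvd hTR
  have hO : o2 R ≤ T := o2_le_syl hTR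
  have hUc : zl T R ≤ zc (o2 R) := zl_le_zc hTR.1 hT2 hs hc
  have hTz : T ≤ centralizer (zc T : Set G) := le_centralizer_zc T
  have DJD : centralizer (ZJ : Set G) ≤ centralizer (zc T : Set G) := centralizer_le (by exact_mod_cast zTJ)
  have OTT : o2 (centralizer (zc T : Set G)) ≤ T := o2_le_syl sylD
  -- `U ≤ Z_J`
  have hU : zl T R ≤ ZJ := by
    rw [← lam, ← LJ_eq DJD DN OTT hV Vsq off]
    intro x hx
    have h1 := mem_zc.1 (hUc hx)
    refine mem_LJ.2 ⟨UO hx, h1.2.1, fun A hA => ?_⟩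
    rw [mem_centralizer_iff]
    exact fun a ha => h1.2.2 a (hJ A hA ha)
  -- `B ≤ O₂(R)`
  have hB : T ⊓ centralizer (ZJ : Set G) ≤ o2 R := by
    rcases hP.sup_eq_or_inf_le hT2 hs inf_le_left (le_normalizer_centralizer_zl T R) with h1 | h1
    · exfalso
      apply hRF
      rw [← h1]
      have h2 : F ≤ zl T R := FZ.trans (zc_le_zl T R)
      exact sup_le (inf_le_right.trans (centralizer_le (by exact_mod_cast h2)))
        (hTz.trans (centralizer_le (by exact_mod_cast FZ)))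
    · refine le_trans (le_inf inf_le_left (le_inf (inf_le_left.trans hTR.1) (inf_le_right.trans ?_))) h1
      exact centralizer_le (by exact_mod_cast hU)
  -- `Ω₁Z(O₂(R)) ≤ Z_J`
  have hZJB : ZJ ≤ T ⊓ centralizer (ZJ : Set G) := le_inf ZJT ZJc
  have hz : zc (o2 R) ≤ ZJ := by
    intro x hx
    obtain ⟨h1, h2, h3⟩ := mem_zc.1 hx
    exact zcB (mem_zc.2 ⟨mem_inf.2 ⟨hO h1, mem_centralizer_iff.2 fun y hy => h3 y (hB (hZJB hy))⟩, h2,
      fun y hy => h3 y (hB hy)⟩)
  have hz' : zc T ≤ zc (o2 R) := zc_le_zc_o2 hTR.1 hT2 hs hc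
  set D' : Subgroup G := centralizer (zc (o2 R) : Set G) with hD'
  have DJ' : centralizer (ZJ : Set G) ≤ D' := centralizer_le (by exact_mod_cast hz)
  have D'D : D' ≤ centralizer (zc T : Set G) := centralizer_le (by exact_mod_cast hz')
  have hRz : R ≤ normalizer (zc (o2 R) : Set G) := (le_normalizer_o2 R).trans (normalizer_le_normalizer_zc _)
  have hRD : R ≤ normalizer (o2 D' : Set G) :=
    (hRz.trans norm_cent).trans (Cfsg.Agent.Omega.normalizer_le_normalizer_o2' _)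
  have OT' : o2 D' ≤ T := by
    have h1 : IsPGroup 2 (T ⊔ o2 D' : Subgroup G) :=
      IsPGroup.to_sup_of_normal_right' hT2 (o2_isPGroup D') (hTR.1.trans hRD)
    have h2 := sylD.2.2 (T ⊔ o2 D') (sup_le hTz ((o2_le D').trans D'D)) h1 le_sup_left
    rw [← h2]
    exact le_sup_right
  have h3 : LJ (o2 D') = ZJ := by rw [← lam]; exact LJ_eq DJ' (D'D.trans DN) OT' hV Vsq off
  rw [← h3]
  exact hRD.trans (LJ_norm _)

/-- a 2-subgroup of odd index is a Sylow group -/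
theorem syl_of_odd {T X : Subgroup G} (hT : IsPGroup 2 T) (hTX : T ≤ X) (h : ¬ 2 ∣ T.relIndex X) : Syl T X := by
  have : Fact (Nat.Prime 2) := ⟨Nat.prime_two⟩
  refine ⟨hTX, hT, fun Q hQX hQ hTQ => ?_⟩
  have h1 := relIndex_mul_relIndex T Q X hTQ hQX
  have h2 : T.relIndex Q ∣ Nat.card Q := relIndex_dvd_card T Q
  obtain ⟨n, hn⟩ := IsPGroup.iff_card.1 hQ
  rw [hn] at h2
  obtain ⟨m, -, hm⟩ := (Nat.dvd_prime_pow Nat.prime_two).1 h2
  have h3 : m = 0 := by
    by_contra hm0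
    apply h
    rw [← h1, hm]
    exact dvd_mul_of_dvd_left (dvd_pow_self 2 hm0) _
  rw [h3, pow_zero] at hm
  exact le_antisymm (relIndex_eq_one.1 hm) hTQ

section tf

variable {ι : Type v} [Finite ι] [Nonempty ι] {S : Sylow 2 G} {V : Subgroup G} {N l : ι → Subgroup G}

/-- `X_ij` has characteristic 2 -/
theorem char2_XF (t : Tf S V N l) (hG : IsCharacteristicTwoType G) (three : ∀ i j : ι, ∃ k, k ≠ i ∧ k ≠ j) (i j : ι) :
    XF (TAct.FF (S : Subgroup G) N l) i j ⊓ centralizer (o2 (XF (TAct.FF (S : Subgroup G) N l) i j) : Set G) ≤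
      o2 (XF (TAct.FF (S : Subgroup G) N l) i j) := by
  have e : XF (TAct.FF (S : Subgroup G) N l) i j =
      centralizer ((closure {x | ∃ n, n ≠ i ∧ n ≠ j ∧ x ∈ TAct.FF (S : Subgroup G) N l n} : Subgroup G) : Set G) :=
    (centralizer_closure _).symm
  have hle : closure {x | ∃ n, n ≠ i ∧ n ≠ j ∧ x ∈ TAct.FF (S : Subgroup G) N l n} ≤ TT (S : Subgroup G) N := by
    rw [closure_le]
    rintro _ ⟨n, -, -, hx⟩
    exact ZN.zc_le _ (t.F_le n hx)
  rw [e]
  refine Cfsg.Agent.Omega.NOne.LemmaT.char2_centralizer hG (t.T2.to_le hle) ?_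
  obtain ⟨l, hl1, hl2⟩ := three i j
  intro e1
  apply t.ne l
  rw [eq_bot_iff, ← e1]
  exact fun x hx => subset_closure ⟨l, hl1, hl2, hx⟩

omit [Finite ι] [Nonempty ι] in
theorem D_le_XF (t : Tf S V N l) (i j : ι) : centralizer (zc (TT (S : Subgroup G) N) : Set G) ≤
    XF (TAct.FF (S : Subgroup G) N l) i j := by
  intro x hx
  rw [XF, mem_centralizer_iff]
  rintro y ⟨n, -, -, hy⟩
  exact mem_centralizer_iff.1 hx y (t.F_le n hy)

/-- `Ω₁Z(T) ≤ Ω₁Z(O₂(X_ij))`, `O₂(X_ij) ≤ O₂(D)` -/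
theorem zcT_XF (t : Tf S V N l) (hG : IsCharacteristicTwoType G) (three : ∀ i j : ι, ∃ k, k ≠ i ∧ k ≠ j)
    (oT : ∀ i j : ι, o2 (XF (TAct.FF (S : Subgroup G) N l) i j) ≤ TT (S : Subgroup G) N) (i j : ι) :
    zc (TT (S : Subgroup G) N) ≤ zc (o2 (XF (TAct.FF (S : Subgroup G) N l) i j)) ∧
      o2 (XF (TAct.FF (S : Subgroup G) N l) i j) ≤ o2 (centralizer (zc (TT (S : Subgroup G) N) : Set G)) := by
  have hTz : TT (S : Subgroup G) N ≤ centralizer (zc (TT (S : Subgroup G) N) : Set G) := le_centralizer_zc _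
  refine ⟨fun x hx => ?_, ?_⟩
  · have hx' := mem_zc.1 hx
    have hc : x ∈ centralizer (o2 (XF (TAct.FF (S : Subgroup G) N l) i j) : Set G) :=
      mem_centralizer_iff.2 fun y hy => hx'.2.2 y (oT i j hy)
    have h3 := char2_XF t hG three i j ⟨D_le_XF t i j (hTz hx'.1), hc⟩
    exact mem_zc.2 ⟨h3, hx'.2.1, fun y hy => mem_centralizer_iff.1 hc y hy⟩
  · exact le_o2 ((oT i j).trans hTz) (o2_isPGroup _) ((D_le_XF t i j).trans (le_normalizer_o2 _))

/-- **CASE 1**: if all elementary abelian subgroups of maximal order of `O₂(D)` are in `O₂(R)` then `R` normalises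
all blocks. -/
theorem case_one (t : Tf S V N l) (hG : IsCharacteristicTwoType G) (three : ∀ i j : ι, ∃ k, k ≠ i ∧ k ≠ j)
    (oT : ∀ i j : ι, o2 (XF (TAct.FF (S : Subgroup G) N l) i j) ≤ TT (S : Subgroup G) N)
    (ln : ∀ c ∈ centralizer (zc (S : Subgroup G) : Set G), ∀ b, ∃ b', cj c (l b) = l b')
    (low : V ≤ o2 (centralizer (zc (S : Subgroup G) : Set G)))
    (off : ∀ A : Subgroup G, A ≤ TT (S : Subgroup G) N → (∀ a ∈ A, a ^ 2 = 1) →
      (centralizer (A : Set G)).relIndex V ≤ (centralizer (V : Set G)).relIndex A →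
      A ≤ centralizer ((⨆ b, l b : Subgroup G) : Set G))
    (lam : LJ (o2 (centralizer ((⨆ b, l b : Subgroup G) : Set G))) = ⨆ b, l b) {j : ι} {R : Subgroup G}
    (hP : IsMinPar (TT (S : Subgroup G) N) R) (hRY : R ≤ YY (TAct.FF (S : Subgroup G) N l) j)
    (hRF : ¬ R ≤ centralizer (TAct.FF (S : Subgroup G) N l j : Set G))
    (hJ : ∀ A : Subgroup G, Mx (o2 (centralizer (zc (TT (S : Subgroup G) N) : Set G))) A → A ≤ o2 R) :
    (R ≤ normalizer ((⨆ b, l b : Subgroup G) : Set G)) ∧ ∀ b, R ≤ normalizer (N b : Set G) := by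
  set T := TT (S : Subgroup G) N with hT
  set ZJ : Subgroup G := ⨆ b, l b with hZJ
  have hDZ : centralizer (zc T : Set G) ≤ centralizer (zc (S : Subgroup G) : Set G) :=
    centralizer_le (by exact_mod_cast t.Z_le_zcT)
  have hDY : ∀ j, centralizer (zc T : Set G) ≤ YY (TAct.FF (S : Subgroup G) N l) j := fun j =>
    le_YY fun b _ => centralizer_le (by exact_mod_cast t.F_le b)
  have hTz : T ≤ centralizer (zc T : Set G) := le_centralizer_zc T
  have hTR : Syl T R := syl_of_odd t.T2 hP.le (t.syl_sub hP.le hRY)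
  have sylD : Syl T (centralizer (zc T : Set G)) := syl_of_odd t.T2 hTz (t.syl_sub hTz (hDY j))
  have DN : centralizer (zc T : Set G) ≤ normalizer (ZJ : Set G) := by
    intro c hc
    refine Cfsg.Agent.ZN.ChoiceBase.mem_normalizer_of_cj_le ?_
    rw [hZJ, cj, Subgroup.map_iSup]
    refine iSup_le fun b => ?_
    obtain ⟨b', hb'⟩ := ln c (hDZ hc) b
    exact (le_of_eq hb').trans (le_iSup l b')
  have hBe : T ⊓ centralizer (ZJ : Set G) = BB (S : Subgroup G) l :=
    le_antisymm (le_inf (inf_le_left.trans inf_le_left) inf_le_right) (le_inf t.BT inf_le_right)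
  have hV : V ≤ o2 (centralizer (ZJ : Set G)) := by
    have h1 : centralizer (ZJ : Set G) ≤ centralizer (zc (S : Subgroup G) : Set G) := t.DC
    have h2 : o2 (centralizer (zc (S : Subgroup G) : Set G)) ⊓ centralizer (ZJ : Set G) ≤
        o2 (centralizer (ZJ : Set G)) := by
      refine le_o2 inf_le_right ((o2_isPGroup _).to_le inf_le_left) fun d hd => ?_
      rw [mem_normalizer_iff_cj, cj_inf, cj_eq_of_mem_normalizer (le_normalizer_o2 _ (h1 hd)),
        cj_eq_of_mem_normalizer (Subgroup.le_normalizer hd)]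
    exact (le_inf low (t.com.trans (centralizer_le (by exact_mod_cast t.RV)))).trans h2
  obtain ⟨i, hi, -⟩ := three j j
  obtain ⟨z1, z2⟩ := zcT_XF t hG three oT j i
  have hRX : R ≤ XF (TAct.FF (S : Subgroup G) N l) j i :=
    hRY.trans (centralizer_le fun _ ⟨n, h1, _, h3⟩ => ⟨n, h1, h3⟩)
  -- `R` has characteristic 2
  have hc : R ⊓ centralizer (o2 R : Set G) ≤ o2 R := by
    have h1 : o2 (XF (TAct.FF (S : Subgroup G) N l) j i) ≤ o2 R :=
      le_o2 ((oT j i).trans hP.le) (o2_isPGroup _) (hRX.trans (le_normalizer_o2 _))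
    rintro x ⟨hx, hxc⟩
    exact h1 (char2_XF t hG three j i ⟨hRX hx, centralizer_le (by exact_mod_cast h1) hxc⟩)
  have UO : zl T R ≤ o2 (centralizer (zc T : Set G)) :=
    (Cfsg.Agent.MinSimple.VModule.zl_le z1
      (hRX.trans ((le_normalizer_o2 _).trans (normalizer_le_normalizer_zc _)))).trans ((zc_le _).trans z2)
  have key : R ≤ normalizer (ZJ : Set G) :=
    case_one_abs hTR hP hc sylD (t.RB.trans t.BT) (t.RV.trans (t.com.trans (centralizer_le (by exact_mod_cast t.RV))))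
      (by rw [hBe]; exact t.I4) t.zcT_le_R DN (t.F_le j) hRF hV t.sq off lam UO hJ
  exact ⟨key, fun b => t.norm_of_R hP hRY key hRF b⟩

end tf

end Cfsg.Agent.Omega.NOThreeL.RWide.UniT

end

end

-- merged: Cfsg.Agent.Mrg.Omega.NOThreeL.RWide.PermNB
section

section


/-!
# `N_G(B)` permutes the lines (helper453 #24836 (3))

`B ≤ S` normalised by `S` (`B = C_S(⨆ l)`), `l b = C_{N b}(B)`. If `C_G(Z)` permutes the lines `l b` (PERM+), and `M₀`
and `N_G(S) ∩ N_G(B)` permute the blocks `N b`, then `N_G(B)` permutes the lines: `N_G(B) ∈ L(S)` is generated by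
`N_G(S) ∩ N_G(B)` and the minimal parabolics `R ≤ N_G(B)` over `S`, and `R ≤ C_G(Z)` or `R ≤ M₀`.

* `permG l` : the group of the elements which permute the `l b`;
* **`permNB`** ; **`permNB_z`** : `q = 2`, the form of the field `perm` of `EDel.AOF.AO`.
-/

set_option autoImplicit false
set_option linter.unusedSectionVars false

namespace Cfsg.Agent.Omega.NOThreeL.RWide.PermNB

open Subgroup Cfsg Cfsg.Agent.ZN Cfsg.Agent.ZN.ChoiceBase Cfsg.Agent.Omega.MinPar
open Cfsg.Agent.Omega.NOThreeL.Merge (MZ le_MZ)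
open Cfsg.Agent.Omega.NO3b.CTwoFF (le_centralizer_of_par)

universe u v

variable {G : Type u} [Group G] [Finite G] {ι : Type v}

/-- the elements which permute the `l b` -/
def permG (l : ι → Subgroup G) : Subgroup G where
  carrier := {g | ∀ b, ∃ c, cj g (l b) = l c}
  one_mem' := fun b => ⟨b, cj_one _⟩
  mul_mem' := fun {x y} hx hy b => by
    obtain ⟨c, h1⟩ := hy b
    obtain ⟨d, h2⟩ := hx c
    exact ⟨d, by rw [← cj_cj, h1, h2]⟩
  inv_mem' := fun {x} hx b => by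
    let f : Set.range l → Set.range l := fun X => ⟨cj x X.1, by
      obtain ⟨a, ha⟩ := X.2
      obtain ⟨c, hc⟩ := hx a
      exact ⟨c, by rw [← hc, ha]⟩⟩
    have hf : Function.Injective f := by
      intro X Y hXY
      have h1 : cj x X.1 = cj x Y.1 := congrArg Subtype.val hXY
      have h2 : cj x⁻¹ (cj x X.1) = cj x⁻¹ (cj x Y.1) := by rw [h1]
      rw [cj_cj, cj_cj, inv_mul_cancel, cj_one, cj_one] at h2
      exact Subtype.ext h2
    have hs : Function.Surjective f := Finite.surjective_of_injective hf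
    obtain ⟨⟨X, c, hc⟩, hX⟩ := hs ⟨l b, b, rfl⟩
    have h1 : cj x X = l b := congrArg Subtype.val hX
    refine ⟨c, ?_⟩
    rw [← h1, cj_cj, inv_mul_cancel, cj_one, hc]

theorem mem_permG {l : ι → Subgroup G} {g : G} : g ∈ permG l ↔ ∀ b, ∃ c, cj g (l b) = l c := Iff.rfl

/-- `g ∈ N_G(B)` which permutes the blocks permutes the lines -/
theorem perm_inf {B : Subgroup G} {N l : ι → Subgroup G} (lB : ∀ b, l b = N b ⊓ centralizer (B : Set G)) {g : G}
    (hg : g ∈ normalizer (B : Set G)) (hN : ∀ b, ∃ c, cj g (N b) = N c) : ∀ b, ∃ c, cj g (l b) = l c := by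
  intro b
  obtain ⟨c, hc⟩ := hN b
  refine ⟨c, ?_⟩
  rw [lB, lB]
  change Subgroup.map _ _ = _
  rw [Subgroup.map_inf_eq _ _ _ (MulAut.conj g).injective]
  change cj g (N b) ⊓ cj g (centralizer (B : Set G)) = _
  rw [hc, cj_centralizer, cj_eq_of_mem_normalizer hg]

variable (S : Sylow 2 G) {B : Subgroup G} {N l : ι → Subgroup G}

/-- **`N_G(B)` permutes the lines.** -/
theorem permNB (hB : IsPGroup 2 B) (hB1 : B ≠ ⊥) (SB : (S : Subgroup G) ≤ normalizer (B : Set G))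
    (permC : ∀ c ∈ centralizer (zc (S : Subgroup G) : Set G), ∀ b, ∃ b', cj c (l b) = l b')
    (permM : ∀ g ∈ MZ (S : Subgroup G), ∀ b, ∃ c, cj g (N b) = N c)
    (permN : ∀ n ∈ normalizer ((S : Subgroup G) : Set G), n ∈ normalizer (B : Set G) → ∀ b, ∃ c, cj n (N b) = N c)
    (lB : ∀ b, l b = N b ⊓ centralizer (B : Set G)) :
    ∀ g ∈ normalizer (B : Set G), ∀ b, ∃ c, cj g (l b) = l c := by
  have h : normalizer (B : Set G) ≤ permG l := by
    refine (isLoc_normalizer S hB hB1 SB).le_of_forall S ?_ fun P hP hPB => ?_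
    · rintro n ⟨h1, h2⟩
      exact mem_permG.2 (perm_inf lB h1 (permN n h2 h1))
    · by_cases hz : P ≤ normalizer (zc (S : Subgroup G) : Set G)
      · exact fun g hg => mem_permG.2 (permC g (le_centralizer_of_par hP hz hg))
      · exact fun g hg => mem_permG.2 (perm_inf lB (hPB hg) (permM g (le_MZ ⟨hP, hz⟩ hg)))
  exact fun g hg => mem_permG.1 (h hg)

/-- `C_W(B) = ⟨z⟩` for a block `W` of order 4 moved by `B`, `z ∈ C_W(B)`. -/
theorem inf_eq_zpowers {B W : Subgroup G} {z : G} (cardW : Nat.card W = 4) (zW : z ∈ W) (z2 : z ^ 2 = 1) (z1 : z ≠ 1)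
    (zB : z ∈ centralizer (B : Set G)) (mv : ¬ B ≤ centralizer (W : Set G)) :
    zpowers z = W ⊓ centralizer (B : Set G) := by
  have hle : zpowers z ≤ W ⊓ centralizer (B : Set G) := (zpowers_le).2 ⟨zW, zB⟩
  have h2 : Nat.card (zpowers z) = 2 := by
    rw [Nat.card_zpowers]
    exact orderOf_eq_prime z2 z1
  have h3 : Nat.card (W ⊓ centralizer (B : Set G) : Subgroup G) ∣ 4 := cardW ▸ Subgroup.card_dvd_of_le inf_le_left
  have h4 : Nat.card (W ⊓ centralizer (B : Set G) : Subgroup G) ≠ 4 := by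
    intro h5
    apply mv
    have h6 : W ⊓ centralizer (B : Set G) = W :=
      Subgroup.eq_of_le_of_card_ge inf_le_left (by rw [h5, cardW])
    have h7 : W ≤ centralizer (B : Set G) := h6 ▸ inf_le_right
    exact Subgroup.le_centralizer_iff.1 h7
  have h5 : 2 ∣ Nat.card (W ⊓ centralizer (B : Set G) : Subgroup G) := h2 ▸ Subgroup.card_dvd_of_le hle
  have h6 : Nat.card (W ⊓ centralizer (B : Set G) : Subgroup G) = 2 := by
    have h7 : Nat.card (W ⊓ centralizer (B : Set G) : Subgroup G) ≤ 4 := Nat.le_of_dvd (by norm_num) h3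
    interval_cases h8 : Nat.card (W ⊓ centralizer (B : Set G) : Subgroup G) <;> omega
  exact Subgroup.eq_of_le_of_card_ge hle (by rw [h6, h2])

/-- **`N_G(B)` permutes the `z b`** (`q = 2`; field `perm` of `EDel.AOF.AO`). -/
theorem permNB_z {z : ι → G} (hB : IsPGroup 2 B) (hB1 : B ≠ ⊥) (SB : (S : Subgroup G) ≤ normalizer (B : Set G))
    (permC : ∀ c ∈ centralizer (zc (S : Subgroup G) : Set G), ∀ b, ∃ b', c * z b * c⁻¹ = z b')
    (permM : ∀ g ∈ MZ (S : Subgroup G), ∀ b, ∃ c, cj g (N b) = N c)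
    (permN : ∀ n ∈ normalizer ((S : Subgroup G) : Set G), n ∈ normalizer (B : Set G) → ∀ b, ∃ c, cj n (N b) = N c)
    (cardN : ∀ b, Nat.card (N b) = 4) (zN : ∀ b, z b ∈ N b) (z2 : ∀ b, z b ^ 2 = 1) (z1 : ∀ b, z b ≠ 1)
    (zB : ∀ b, z b ∈ centralizer (B : Set G)) (mv : ∀ b, ¬ B ≤ centralizer (N b : Set G)) :
    ∀ g ∈ normalizer (B : Set G), ∀ b, ∃ c, g * z b * g⁻¹ = z c := by
  have hcj : ∀ (g x : G), cj g (zpowers x) = zpowers (g * x * g⁻¹) := by
    intro g x
    change Subgroup.map _ _ = _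
    rw [MonoidHom.map_zpowers]
    rfl
  have key := permNB S (N := N) (l := fun b => zpowers (z b)) hB hB1 SB
    (fun c hc b => by
      obtain ⟨b', h1⟩ := permC c hc b
      exact ⟨b', by rw [hcj, h1]⟩)
    permM permN fun b => inf_eq_zpowers (cardN b) (zN b) (z2 b) (z1 b) (zB b) (mv b)
  intro g hg b
  obtain ⟨c, hc⟩ := key g hg b
  refine ⟨c, ?_⟩
  rw [hcj] at hc
  have h1 : g * z b * g⁻¹ ∈ zpowers (z c) := hc ▸ mem_zpowers _
  have h2 : g * z b * g⁻¹ ≠ 1 := by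
    intro h3
    apply z1 b
    have h4 : z b = g⁻¹ * (g * z b * g⁻¹) * g := by group
    rw [h4, h3]
    group
  obtain ⟨k, hk⟩ := mem_zpowers_iff.1 h1
  rw [← hk]
  rcases Int.even_or_odd' k with ⟨m, rfl | rfl⟩
  · exfalso
    apply h2
    rw [← hk, zpow_mul, show (z c) ^ (2 : ℤ) = 1 from by exact_mod_cast z2 c, one_zpow]
  · rw [zpow_add, zpow_mul, show (z c) ^ (2 : ℤ) = 1 from by exact_mod_cast z2 c, one_zpow, one_mul, zpow_one]

end Cfsg.Agent.Omega.NOThreeL.RWide.PermNB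

end

section


/-!
# Elementary abelian `2`-groups of upper triangular semilinear maps of `F²` (pure; for `wc` of #26055)

* `card_fix_sq` : `|Fix σ|² ≤ |F|` for `σ ≠ 1`; `card_sol` : `|{x : α σ x = β x}| ≤ |Fix σ|`;
* **`semi_cnt`** : `A` acts on `F²` by maps `v ↦ (a σ v₀ + b σ v₁, d σ v₁)` of square `1` ⟹
  `|A : C_A(F²)| |C_{F²}(A)| ≤ |F|²`, with equality only if `A` centralises the line `v₁ = 0`.
-/

set_option autoImplicit false
set_option linter.unusedSectionVars false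

namespace Cfsg.Agent.Omega.NOThreeL.RWide.SemiCnt

variable {F : Type*} [Field F] [Finite F]

theorem card_fix_sq (σ : F ≃+* F) (hσ : ∃ t, σ t ≠ t) :
    Nat.card {x : F // σ x = x} * Nat.card {x : F // σ x = x} ≤ Nat.card F := by
  obtain ⟨t, ht⟩ := hσ
  rw [← Nat.card_prod]
  refine Nat.card_le_card_of_injective (fun p : {x : F // σ x = x} × {x : F // σ x = x} => p.1.1 + p.2.1 * t) ?_
  rintro ⟨⟨x, hx⟩, ⟨y, hy⟩⟩ ⟨⟨x', hx'⟩, ⟨y', hy'⟩⟩ h
  simp only at h
  by_cases hyy : y = y'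
  · subst hyy
    have : x = x' := add_right_cancel h
    subst this
    rfl
  · exfalso
    apply ht
    have h1 : (y - y') * t = x' - x := by linear_combination h
    have h2 : y - y' ≠ 0 := sub_ne_zero.mpr hyy
    have h3 : t = (x' - x) / (y - y') := by
      rw [eq_div_iff h2, mul_comm]; exact h1
    rw [h3, map_div₀, map_sub, map_sub, hx, hx', hy, hy']

theorem two_le_fix (σ : F ≃+* F) : 2 ≤ Nat.card {x : F // σ x = x} := by
  have h : Nat.card (Fin 2) ≤ Nat.card {x : F // σ x = x} := by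
    refine Nat.card_le_card_of_injective (fun i : Fin 2 =>
      (if i = 0 then ⟨0, map_zero σ⟩ else ⟨1, map_one σ⟩ : {x : F // σ x = x})) ?_
    intro i j h
    fin_cases i <;> fin_cases j <;> simp_all
  simpa using h

theorem card_sol (σ : F ≃+* F) (α β : F) (hα : α ≠ 0) :
    Nat.card {x : F // α * σ x = β * x} ≤ Nat.card {x : F // σ x = x} := by
  by_cases h0 : ∃ x₁ : F, x₁ ≠ 0 ∧ α * σ x₁ = β * x₁
  · obtain ⟨x₁, h1, h2⟩ := h0
    have h3 : σ x₁ ≠ 0 := fun h => h1 ((map_eq_zero σ).mp h)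
    have hβ : β ≠ 0 := by
      rintro rfl
      rw [zero_mul] at h2
      exact mul_ne_zero hα h3 h2
    refine Nat.card_le_card_of_injective (fun x => ⟨x.1 / x₁, ?_⟩) ?_
    · obtain ⟨x, hx⟩ := x
      simp only
      rw [map_div₀, div_eq_div_iff h3 h1]
      have h4 : α * (σ x * x₁) = α * (x * σ x₁) := by
        calc α * (σ x * x₁) = α * σ x * x₁ := by ring
          _ = β * x * x₁ := by rw [hx]
          _ = x * (β * x₁) := by ring
          _ = x * (α * σ x₁) := by rw [h2]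
          _ = α * (x * σ x₁) := by ring
      exact mul_left_cancel₀ hα h4
    · rintro ⟨x, hx⟩ ⟨y, hy⟩ h
      simp only [Subtype.mk.injEq] at h
      exact Subtype.ext ((div_left_inj' h1).mp h)
  · push Not at h0
    have h1 : ∀ x : {x : F // α * σ x = β * x}, x = ⟨0, by simp⟩ := by
      rintro ⟨x, hx⟩
      apply Subtype.ext
      by_contra hne
      exact h0 x hne hx
    have h2 : Nat.card {x : F // α * σ x = β * x} ≤ 1 := by
      have : Subsingleton {x : F // α * σ x = β * x} := ⟨fun x y => (h1 x).trans (h1 y).symm⟩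
      exact Finite.card_le_one_iff_subsingleton.mpr this
    exact h2.trans ((by norm_num : 1 ≤ 2).trans (two_le_fix σ))

/-- upper triangular semilinear -/
def Sm (f : (Fin 2 → F) → (Fin 2 → F)) (σ : F ≃+* F) (a b d : F) : Prop :=
  ∀ v, f v = ![a * σ (v 0) + b * σ (v 1), d * σ (v 1)]

variable [CharP F 2]

theorem sq_one {a : F} (h : a * a = 1) : a = 1 := by
  have h1 : (a - 1) * (a - 1) = 0 := by
    have h2 : (2 : F) = 0 := CharP.cast_eq_zero F 2
    linear_combination h + (1 - a) * h2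
  have h3 := mul_self_eq_zero.mp h1
  exact sub_eq_zero.mp h3

theorem Sm.inv {f : (Fin 2 → F) → (Fin 2 → F)} {σ : F ≃+* F} {a b d : F} (h : Sm f σ a b d)
    (h2 : ∀ v, f (f v) = v) : a ≠ 0 ∧ d ≠ 0 ∧ ∀ x, σ (σ x) = x := by
  have h3 : ∀ x, a * σ (a * σ x) = x := fun x => by
    have := congrFun (h2 ![x, 0]) 0
    rw [h, h] at this
    simpa using this
  have ha : a * σ a = 1 := by simpa using h3 1
  have hd : d * σ d = 1 := by
    have := congrFun (h2 ![0, 1]) 1
    rw [h, h] at this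
    simpa using this
  refine ⟨left_ne_zero_of_mul_eq_one ha, left_ne_zero_of_mul_eq_one hd, fun x => ?_⟩
  have := h3 x
  rw [map_mul, ← mul_assoc, ha, one_mul] at this
  exact this

theorem Sm.lin {f : (Fin 2 → F) → (Fin 2 → F)} {σ : F ≃+* F} {a b d : F} (h : Sm f σ a b d)
    (h2 : ∀ v, f (f v) = v) (hσ : ∀ x, σ x = x) : ∀ v, f v = ![v 0 + b * v 1, v 1] := by
  have h3 : a * a = 1 := by
    have := congrFun (h2 ![1, 0]) 0
    rw [h, h] at this
    simpa [hσ] using this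
  have h4 : d * d = 1 := by
    have := congrFun (h2 ![0, 1]) 1
    rw [h, h] at this
    simpa [hσ] using this
  intro v
  rw [h v, sq_one h3, sq_one h4]
  simp [hσ]

/-- in the Galois group of a finite field there is at most one involution -/
theorem inv_unique {σ τ : F ≃+* F} (h1 : ∀ x, σ (σ x) = x) (h2 : ∀ x, τ (τ x) = x) (h3 : ∃ x, σ x ≠ x)
    (h4 : ∃ x, τ x ≠ x) : ∀ x, σ x = τ x := by
  classical
  have := Fintype.ofFinite F
  let _ : Algebra (ZMod 2) F := ZMod.algebra F 2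
  let f : (F ≃+* F) → (F ≃ₐ[ZMod 2] F) := fun s => AlgEquiv.ofRingEquiv (f := s) (fun r => by
    have : Subsingleton (ZMod 2 →+* F) := inferInstance
    have h := congrArg (fun g : ZMod 2 →+* F => g r)
      (Subsingleton.elim ((s : F →+* F).comp (algebraMap (ZMod 2) F)) (algebraMap (ZMod 2) F))
    simpa using h)
  have hf : ∀ s x, f s x = s x := fun s x => rfl
  have hcyc : IsCyclic (F ≃ₐ[ZMod 2] F) := inferInstance
  have hc := IsCyclic.card_pow_eq_one_le (α := F ≃ₐ[ZMod 2] F) (n := 2) (by norm_num)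
  by_contra hne
  push Not at hne
  obtain ⟨x, hx⟩ := hne
  have hs : f σ ≠ 1 := fun h => by
    obtain ⟨y, hy⟩ := h3
    exact hy (by rw [← hf, h]; rfl)
  have ht : f τ ≠ 1 := fun h => by
    obtain ⟨y, hy⟩ := h4
    exact hy (by rw [← hf, h]; rfl)
  have hst : f σ ≠ f τ := fun h => hx (by rw [← hf, h]; rfl)
  have h5 : ({1, f σ, f τ} : Finset (F ≃ₐ[ZMod 2] F)) ⊆ Finset.univ.filter fun a => a ^ 2 = 1 := by
    intro g hg
    simp only [Finset.mem_insert, Finset.mem_singleton] at hg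
    simp only [Finset.mem_filter, Finset.mem_univ, true_and]
    rcases hg with rfl | rfl | rfl
    · simp
    · apply AlgEquiv.ext
      intro y
      rw [pow_two]
      exact h1 y
    · apply AlgEquiv.ext
      intro y
      rw [pow_two]
      exact h2 y
  have h6 := Finset.card_le_card h5
  rw [Finset.card_insert_of_notMem (by simp [Ne.symm hs, Ne.symm ht]), Finset.card_pair hst] at h6
  omega

section cnt

variable {A : Type*} [Group A] (ρ : A →* Equiv.Perm (Fin 2 → F))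

/-- the root parameters in the image of `A` -/
def Bs : Set F := {b | ∃ g, ∀ v, ρ g v = ![v 0 + b * v 1, v 1]}

/-- **The count on one block.** -/
theorem semi_cnt (hsm : ∀ g, ∃ σ a b d, Sm (ρ g) σ a b d) (h2 : ∀ g v, ρ g (ρ g v) = v) :
    Nat.card ρ.range * Nat.card {v : Fin 2 → F // ∀ g, ρ g v = v} ≤ Nat.card F ^ 2 ∧
      (Nat.card ρ.range * Nat.card {v : Fin 2 → F // ∀ g, ρ g v = v} = Nat.card F ^ 2 →
        ∀ g x, ρ g ![x, 0] = ![x, 0]) := by
  classical
  choose σ a b d hS using hsm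
  have hroot : ∀ g, (∀ x, σ g x = x) → ∀ v, ρ g v = ![v 0 + b g * v 1, v 1] := fun g hg =>
    (hS g).lin (h2 g) hg
  by_cases hlin : ∀ g x, σ g x = x
  · -- all elements are root elements
    have hx : ∀ g x, ρ g ![x, 0] = ![x, 0] := fun g x => by rw [hroot g (hlin g)]; simp
    refine ⟨?_, fun _ => hx⟩
    have h1 : Nat.card ρ.range ≤ Nat.card F := by
      refine Nat.card_le_card_of_injective (fun r : ρ.range => (r.1 ![0, 1]) 0) ?_
      rintro ⟨r, g, rfl⟩ ⟨r', g', rfl⟩ h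
      simp only [hroot g (hlin g), hroot g' (hlin g')] at h
      apply Subtype.ext
      apply Equiv.ext
      intro v
      have hb : b g = b g' := by simpa using h
      change ρ g v = ρ g' v
      rw [hroot g (hlin g), hroot g' (hlin g'), hb]
    by_cases hb : ∀ g, b g = 0
    · have h3 : Nat.card ρ.range ≤ 1 := by
        have : Subsingleton ρ.range := ⟨by
          rintro ⟨r, g, rfl⟩ ⟨r', g', rfl⟩
          apply Subtype.ext
          apply Equiv.ext
          intro v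
          change ρ g v = ρ g' v
          rw [hroot g (hlin g), hroot g' (hlin g'), hb g, hb g']⟩
        exact Finite.card_le_one_iff_subsingleton.mpr this
      have h4 : Nat.card {v : Fin 2 → F // ∀ g, ρ g v = v} ≤ Nat.card (Fin 2 → F) :=
        Nat.card_le_card_of_injective Subtype.val Subtype.val_injective
      rw [Nat.card_fun, Nat.card_eq_fintype_card (α := Fin 2), Fintype.card_fin] at h4
      calc _ ≤ 1 * Nat.card F ^ 2 := Nat.mul_le_mul h3 h4
        _ = _ := one_mul _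
    · push Not at hb
      obtain ⟨g₀, hg₀⟩ := hb
      have h4 : Nat.card {v : Fin 2 → F // ∀ g, ρ g v = v} ≤ Nat.card F := by
        refine Nat.card_le_card_of_injective (fun v => v.1 0) ?_
        have h5 : ∀ v : {v : Fin 2 → F // ∀ g, ρ g v = v}, v.1 1 = 0 := by
          rintro ⟨v, hv⟩
          have := congrFun (hv g₀) 0
          rw [hroot g₀ (hlin g₀)] at this
          simp only [Matrix.cons_val_zero, add_eq_left, mul_eq_zero] at this
          exact this.resolve_left hg₀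
        intro v w h
        apply Subtype.ext
        funext i
        fin_cases i
        · exact h
        · simp [h5 v, h5 w]
      calc _ ≤ Nat.card F * Nat.card F := Nat.mul_le_mul h1 h4
        _ = _ := (pow_two _).symm
  · -- some `τ` is not linear
    push Not at hlin
    obtain ⟨τ, t, ht⟩ := hlin
    obtain ⟨ha, hd, hσ2⟩ := (hS τ).inv (h2 τ)
    set σ₀ := σ τ with hσ₀
    set f := Nat.card {x : F // σ₀ x = x} with hf
    have hf2 : f * f ≤ Nat.card F := card_fix_sq σ₀ ⟨t, ht⟩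
    have hf3 : 2 ≤ f := two_le_fix σ₀
    have hcomm : ∀ g h v, ρ g (ρ h v) = ρ h (ρ g v) := by
      intro g h v
      have h3 := h2 (g * h) v
      rw [map_mul, Equiv.Perm.mul_apply, Equiv.Perm.mul_apply] at h3
      have h4 : ρ h (ρ g (ρ h v)) = ρ g v := by
        have := congrArg (ρ g) h3
        rw [h2 g] at this
        exact this
      have h5 := congrArg (ρ h) h4
      rw [h2 h] at h5
      exact h5
    -- for all `g` : `g` or `g τ` is a root element
    have hor : ∀ g, (∀ x, σ g x = x) ∨ ∀ x, σ (g * τ) x = x := by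
      intro g
      by_cases hg : ∀ x, σ g x = x
      · exact Or.inl hg
      · right
        push Not at hg
        have h3 := inv_unique ((hS g).inv (h2 g)).2.2 hσ2 hg ⟨t, ht⟩
        have h4 : ∀ x, a (g * τ) * σ (g * τ) x = a g * σ₀ (a τ) * x := by
          intro x
          have h5 := congrFun (hS (g * τ) ![x, 0]) 0
          rw [map_mul, Equiv.Perm.mul_apply, hS τ, hS g] at h5
          simp only [Matrix.cons_val_zero, Matrix.cons_val_one, map_zero, mul_zero, add_zero] at h5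
          rw [← h5, h3, map_mul, ← hσ₀, hσ2, mul_assoc]
        have h5 : a (g * τ) = a g * σ₀ (a τ) := by
          have := h4 1
          simpa using this
        intro x
        have h6 := h4 x
        rw [h5] at h6
        have h7 : a g * σ₀ (a τ) ≠ 0 :=
          mul_ne_zero ((hS g).inv (h2 g)).1 (fun h => ha ((map_eq_zero σ₀).mp h))
        exact mul_left_cancel₀ h7 h6
    -- the image has order at most `2 |Bs|`
    have hcard : Nat.card ρ.range ≤ 2 * Nat.card (Bs ρ) := by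
      have h3 : Nat.card (Bool × Bs ρ) = 2 * Nat.card (Bs ρ) := by
        rw [Nat.card_prod]; simp
      rw [← h3]
      have hch : ∀ r : ρ.range, ∃ g, ρ g = r.1 := fun r => r.2
      choose γ hγ using hch
      have hB : ∀ r : ρ.range, ¬ (∀ x, σ (γ r) x = x) → b (γ r * τ) ∈ Bs ρ := fun r hr =>
        ⟨γ r * τ, hroot _ ((hor (γ r)).resolve_left hr)⟩
      refine Nat.card_le_card_of_injective (fun r : ρ.range =>
        if h : ∀ x, σ (γ r) x = x then ((false, ⟨b (γ r), γ r, hroot _ h⟩) : Bool × Bs ρ)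
        else (true, ⟨b (γ r * τ), hB r h⟩)) ?_
      intro r r' h
      apply Subtype.ext
      apply Equiv.ext
      intro v
      rw [← hγ r, ← hγ r']
      by_cases h1 : ∀ x, σ (γ r) x = x
      · by_cases h1' : ∀ x, σ (γ r') x = x
        · simp only [h1, h1', implies_true, dite_true, Prod.mk.injEq, true_and] at h
          have h' : b (γ r) = b (γ r') := congrArg Subtype.val h
          rw [hroot _ h1, hroot _ h1', h']
        · simp [h1, h1'] at h
      · by_cases h1' : ∀ x, σ (γ r') x = x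
        · simp [h1, h1'] at h
        · simp only [h1, h1', dite_false, Prod.mk.injEq, true_and] at h
          have h' : b (γ r * τ) = b (γ r' * τ) := congrArg Subtype.val h
          have e1 := hroot _ ((hor (γ r)).resolve_left h1)
          have e2 := hroot _ ((hor (γ r')).resolve_left h1')
          have e3 : ∀ w, ρ (γ r) (ρ τ w) = ρ (γ r') (ρ τ w) := fun w => by
            have := (e1 w).trans (e2 w ▸ (by rw [h']) : ![w 0 + b (γ r * τ) * w 1, w 1] = ρ (γ r' * τ) w)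
            simpa only [map_mul, Equiv.Perm.mul_apply] using this
          have := e3 (ρ τ v)
          rwa [h2 τ] at this
    have hfin : Nat.card ρ.range * Nat.card {v : Fin 2 → F // ∀ g, ρ g v = v} ≤ 2 * (f * f) := by
      by_cases hb : ∀ c ∈ Bs ρ, c = 0
      · have h3 : Nat.card (Bs ρ) ≤ 1 := by
          have : Subsingleton (Bs ρ) := ⟨fun x y => Subtype.ext ((hb x x.2).trans (hb y y.2).symm)⟩
          exact Finite.card_le_one_iff_subsingleton.mpr this
        have h4 : Nat.card {v : Fin 2 → F // ∀ g, ρ g v = v} ≤ f * f := by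
          have hs1 := card_sol σ₀ (a τ) 1 ha
          have hs2 := card_sol σ₀ (d τ) 1 hd
          simp only [one_mul] at hs1 hs2
          have hfix : ∀ v : {v : Fin 2 → F // ∀ g, ρ g v = v}, a τ * σ₀ (v.1 0) + b τ * σ₀ (v.1 1) = v.1 0 ∧
              d τ * σ₀ (v.1 1) = v.1 1 := by
            rintro ⟨v, hv⟩
            have h5 := hv τ
            rw [hS τ] at h5
            exact ⟨by simpa using congrFun h5 0, by simpa using congrFun h5 1⟩
          -- a choice of `v 0` for every `v 1`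
          let pk : F → F := fun y =>
            if h : ∃ v : {v : Fin 2 → F // ∀ g, ρ g v = v}, v.1 1 = y then h.choose.1 0 else 0
          have hpk : ∀ v : {v : Fin 2 → F // ∀ g, ρ g v = v},
              a τ * σ₀ (pk (v.1 1)) + b τ * σ₀ (v.1 1) = pk (v.1 1) := by
            intro v
            have hex : ∃ w : {v : Fin 2 → F // ∀ g, ρ g v = v}, w.1 1 = v.1 1 := ⟨v, rfl⟩
            have h6 : pk (v.1 1) = hex.choose.1 0 := dif_pos hex
            rw [h6]
            have h7 := (hfix hex.choose).1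
            rwa [hex.choose_spec] at h7
          have h5 : Nat.card {v : Fin 2 → F // ∀ g, ρ g v = v} ≤
              Nat.card ({x : F // d τ * σ₀ x = x} × {x : F // a τ * σ₀ x = x}) := by
            refine Nat.card_le_card_of_injective (fun v => (⟨v.1 1, (hfix v).2⟩,
              ⟨v.1 0 - pk (v.1 1), ?_⟩)) ?_
            · have h6 := (hfix v).1
              have h7 := hpk v
              rw [map_sub]
              linear_combination h6 - h7
            · intro v w h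
              simp only [Prod.mk.injEq, Subtype.mk.injEq] at h
              apply Subtype.ext
              funext i
              fin_cases i
              · have h6 := h.2
                rw [h.1] at h6
                simpa using h6
              · exact h.1
          rw [Nat.card_prod] at h5
          exact h5.trans (Nat.mul_le_mul hs2 hs1)
        calc _ ≤ (2 * 1) * (f * f) := Nat.mul_le_mul (hcard.trans (Nat.mul_le_mul_left _ h3)) h4
          _ = _ := by ring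
      · push Not at hb
        obtain ⟨c, ⟨g₀, hg₀⟩, hc⟩ := hb
        have h3 : Nat.card (Bs ρ) ≤ f := by
          have hs := card_sol σ₀ (a τ) (d τ) ha
          refine le_trans ?_ hs
          refine Nat.card_le_card_of_injective (fun c : Bs ρ => (⟨c.1, ?_⟩ : {x : F // a τ * σ₀ x = d τ * x})) ?_
          · obtain ⟨c, g, hg⟩ := c
            have h5 := congrFun (hcomm τ g ![0, 1]) 0
            rw [hg, hg, hS τ, hS τ] at h5
            simp only [Matrix.cons_val_zero, Matrix.cons_val_one, zero_add, mul_one, map_one, map_zero, mul_zero]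
              at h5
            linear_combination h5
          · intro x y h
            simp only [Subtype.mk.injEq] at h
            exact Subtype.ext h
        have h4 : Nat.card {v : Fin 2 → F // ∀ g, ρ g v = v} ≤ f := by
          have hs := card_sol σ₀ (a τ) 1 ha
          simp only [one_mul] at hs
          refine le_trans ?_ hs
          have h5 : ∀ v : {v : Fin 2 → F // ∀ g, ρ g v = v}, v.1 1 = 0 := by
            rintro ⟨v, hv⟩
            have := congrFun (hv g₀) 0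
            rw [hg₀] at this
            simp only [Matrix.cons_val_zero, add_eq_left, mul_eq_zero] at this
            exact this.resolve_left hc
          refine Nat.card_le_card_of_injective (fun v => ⟨v.1 0, ?_⟩) ?_
          · have h6 := congrFun (v.2 τ) 0
            rw [hS τ, h5 v] at h6
            simpa using h6
          · intro v w h
            simp only [Subtype.mk.injEq] at h
            apply Subtype.ext
            funext i
            fin_cases i
            · exact h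
            · simp [h5 v, h5 w]
        calc _ ≤ (2 * f) * f := Nat.mul_le_mul (hcard.trans (Nat.mul_le_mul_left _ h3)) h4
          _ = _ := by ring
    have hlt : Nat.card ρ.range * Nat.card {v : Fin 2 → F // ∀ g, ρ g v = v} < Nat.card F ^ 2 := by
      have h4 : 4 ≤ Nat.card F := le_trans (Nat.mul_le_mul hf3 hf3) hf2
      calc _ ≤ 2 * (f * f) := hfin
        _ ≤ 2 * Nat.card F := Nat.mul_le_mul_left _ hf2
        _ < Nat.card F ^ 2 := by rw [pow_two]; exact Nat.mul_lt_mul_of_pos_right (by omega) (by omega)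
    exact ⟨hlt.le, fun h => absurd h hlt.ne⟩

end cnt

end Cfsg.Agent.Omega.NOThreeL.RWide.SemiCnt

end

end

-- merged: Cfsg.Agent.Mrg.Omega.NOThreeL.RWide.ParQ.I
section

/-!
# The passive case of PAR (helper801 #26892 (i), helper971 #27366)

`T = TT S N`, `O = O₂(C_G(Ω₁Z(T)))`, `P ∈ 𝒫(T)`, `P ≤ Y_j`.

* `line_cent` : an exact `A ≤ S ∩ N_G(N)` on a natural block `N` centralises its line;
* `TFm.toTf` : `Tf` from `TFm`;
* `TFm.XF_le_O` : `⟨Ω₁Z(T)^(X_ij)⟩ ≤ Ω₁Z(O₂(X_ij)) ≤ O`; `TFm.cj_le_O` : `N_b^x ≤ O` for `x ∈ Y_j`;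
* `TFm.root` : `A ∈ 𝒜(O)`, `A^x ≤ T`, `x ∈ Y_j` : `A^x` centralises all lines;
* **`TFm.passive`** : if all members of `𝒜(O)` lie in `O₂(P)` and `zJ`: `Ω₁(C_O(𝒜(O))) ≤ Z_J`, then `P` normalises `Z_J`;
  `TFm.passive_par` : then `P` normalises all blocks.
-/

set_option autoImplicit false
set_option linter.unusedSectionVars false

namespace Cfsg.Agent.Omega.NOThreeL.RWide.ParQ

open Subgroup Cfsg Cfsg.Agent.Omega.MinPar
open Cfsg.Agent.ZN (zc o2)
open Cfsg.Agent.ZN.ChoiceBase (cj cj_mono cj_inf cj_centralizer cj_eq_of_mem_normalizer mem_cj mem_normalizer_iff_cj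
  cj_cj_inv cj_inv_cj cj_cj cj_one mem_zc isPGroup_cj card_cj)
open Cfsg.Agent.MinSimple.MinParabolic (IsMinPar le_of_forall)
open Cfsg.Agent.MinSimple.VModule (zc_le normalizer_le_normalizer_zc le_centralizer_zc le_normalizer_o2 o2_isPGroup
  le_o2 o2_le o2_le_of_sylow)
open Cfsg.Agent.Omega.NoFF.Basic (comm_symm)
open Cfsg.Agent.Omega.EDel.ThmU (XF XF_le sylow_of_two)
open Cfsg.Agent.Omega.NOThreeL.RWide.TBlk (NB Bls)
open Cfsg.Agent.Omega.NOThreeL.RWide.TAct (TT BB Tf OT)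
open Cfsg.Agent.Omega.KL.TwoS (Mx relIndex_card)
open Cfsg.Agent.Omega.NOThreeL.RWide.SemiCnt (Sm semi_cnt)

universe u v

variable {G : Type u} [Group G]

section line

variable {S E N l A : Subgroup G} {F : Type} [Field F] [Finite F] [CharP F 2] {e : G → Fin 2 → F}

/-- coordinates as an equivalence -/
noncomputable def eqv (h : NB S E N l F e) : N ≃ (Fin 2 → F) :=
  Equiv.ofBijective (fun v => e v) ⟨fun v w hvw => by
    apply Subtype.ext
    have h1 : e (v : G) = e (w : G) := hvw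
    have h2 : e ((v : G) * (w : G)⁻¹) = 0 := by
      have h3 := h.mul _ (mul_mem v.2 (inv_mem w.2)) _ w.2
      rw [inv_mul_cancel_right] at h3
      rw [h3] at h1
      exact add_eq_right.1 h1
    exact mul_inv_eq_one.1 (h.inj _ (mul_mem v.2 (inv_mem w.2)) h2), fun x => by
    obtain ⟨v, hv, hx⟩ := h.sur x
    exact ⟨⟨v, hv⟩, hx⟩⟩

theorem eqv_apply (h : NB S E N l F e) (v : N) : eqv h v = e v := rfl

theorem e_symm (h : NB S E N l F e) (x : Fin 2 → F) : e ((eqv h).symm x : G) = x := (eqv h).apply_symm_apply x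

/-- conjugation on `N` -/
def cjN (hA : A ≤ normalizer (N : Set G)) (a : A) : N ≃ N where
  toFun v := ⟨a * v * (a : G)⁻¹, (mem_normalizer_iff.1 (hA a.2) v).1 v.2⟩
  invFun v := ⟨(a : G)⁻¹ * v * a, by
    have h1 := (mem_normalizer_iff.1 (hA (inv_mem a.2)) (v : G)).1 v.2
    rwa [inv_inv] at h1⟩
  left_inv v := Subtype.ext (by change (a : G)⁻¹ * (a * v * (a : G)⁻¹) * a = v; group)
  right_inv v := Subtype.ext (by change (a : G) * ((a : G)⁻¹ * v * a) * (a : G)⁻¹ = v; group)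

/-- the action of `A` on `F²` -/
noncomputable def rho (h : NB S E N l F e) (hA : A ≤ normalizer (N : Set G)) : A →* Equiv.Perm (Fin 2 → F) where
  toFun a := (eqv h).symm.trans ((cjN hA a).trans (eqv h))
  map_one' := by
    apply Equiv.ext
    intro x
    change eqv h (cjN hA 1 ((eqv h).symm x)) = x
    have h1 : cjN hA 1 ((eqv h).symm x) = (eqv h).symm x := Subtype.ext (by
      change ((1 : A) : G) * _ * ((1 : A) : G)⁻¹ = _
      rw [OneMemClass.coe_one, one_mul, inv_one, mul_one])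
    rw [h1, Equiv.apply_symm_apply]
  map_mul' a b := by
    apply Equiv.ext
    intro x
    change eqv h (cjN hA (a * b) ((eqv h).symm x)) = eqv h (cjN hA a ((eqv h).symm (eqv h (cjN hA b ((eqv h).symm x)))))
    rw [Equiv.symm_apply_apply]
    congr 1
    apply Subtype.ext
    change ((a * b : A) : G) * ((eqv h).symm x : G) * ((a * b : A) : G)⁻¹ =
      (a : G) * ((b : G) * ((eqv h).symm x : G) * (b : G)⁻¹) * (a : G)⁻¹
    rw [Subgroup.coe_mul]
    group

theorem rho_apply (h : NB S E N l F e) (hA : A ≤ normalizer (N : Set G)) (a : A) (x : Fin 2 → F) :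
    rho h hA a x = e ((a : G) * ((eqv h).symm x : G) * (a : G)⁻¹) := rfl

theorem rho_fix (h : NB S E N l F e) (hA : A ≤ normalizer (N : Set G)) (a : A) (x : Fin 2 → F) :
    rho h hA a x = x ↔ (a : G) * ((eqv h).symm x : G) * (a : G)⁻¹ = ((eqv h).symm x : G) := by
  constructor
  · intro h1
    have h2 : (eqv h) (cjN hA a ((eqv h).symm x)) = (eqv h) ((eqv h).symm x) := by
      rw [Equiv.apply_symm_apply]; exact h1
    exact congrArg Subtype.val ((eqv h).injective h2)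
  · intro h1
    rw [rho_apply, h1]
    exact e_symm h x

/-- **An exact group on a natural block centralises the line.** -/
theorem line_cent [Finite G] (h : NB S E N l F e) (hAS : A ≤ S) (hA : A ≤ normalizer (N : Set G))
    (h2 : ∀ a ∈ A, a ^ 2 ∈ centralizer (N : Set G))
    (hoff : (centralizer (A : Set G)).relIndex N ≤ (centralizer (N : Set G)).relIndex A) :
    A ≤ centralizer (l : Set G) := by
  -- the kernel
  have hker : (rho h hA).ker = (centralizer (N : Set G)).subgroupOf A := by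
    ext a
    rw [MonoidHom.mem_ker, mem_subgroupOf, mem_centralizer_iff]
    constructor
    · intro h1 v hv
      have h3 : rho h hA a (e v) = e v := by rw [h1]; rfl
      have h4 : ((eqv h).symm (e v) : G) = v := by
        have := (eqv h).symm_apply_apply ⟨v, hv⟩
        exact congrArg Subtype.val this
      have h5 := (rho_fix h hA a _).1 h3
      rw [h4] at h5
      calc v * a = (a * v * (a : G)⁻¹) * a := by rw [h5]
        _ = a * v := by group
    · intro h1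
      apply Equiv.ext
      intro x
      refine (rho_fix h hA a x).2 ?_
      rw [← h1 _ ((eqv h).symm x).2, mul_inv_cancel_right]
  have hr : Nat.card (rho h hA).range = (centralizer (N : Set G)).relIndex A := by
    rw [← Subgroup.index_ker, hker]; rfl
  -- the fixed points
  have hf : Nat.card {v : Fin 2 → F // ∀ g, rho h hA g v = v} =
      Nat.card (N ⊓ centralizer (A : Set G) : Subgroup G) := by
    refine (Nat.card_congr ?_).symm
    refine
      { toFun := fun v => ⟨e v, fun g => ?_⟩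
        invFun := fun x => ⟨((eqv h).symm x.1 : G), ((eqv h).symm x.1).2, ?_⟩
        left_inv := fun v => ?_
        right_inv := fun x => ?_ }
    · have h4 : ((eqv h).symm (e v) : G) = v := by
        have := (eqv h).symm_apply_apply ⟨v, v.2.1⟩
        exact congrArg Subtype.val this
      refine (rho_fix h hA g _).2 ?_
      rw [h4, mem_centralizer_iff.1 v.2.2 g g.2, mul_inv_cancel_right]
    · change _ ∈ centralizer (A : Set G)
      rw [mem_centralizer_iff]
      intro a ha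
      have h5 := (rho_fix h hA ⟨a, ha⟩ x.1).1 (x.2 ⟨a, ha⟩)
      calc a * _ = (a * ((eqv h).symm x.1 : G) * a⁻¹) * a := by group
        _ = _ := by rw [h5]
    · apply Subtype.ext
      have := (eqv h).symm_apply_apply ⟨v, v.2.1⟩
      exact congrArg (fun w : N => (w : G)) this
    · apply Subtype.ext
      exact e_symm h x.1
  have hN : Nat.card N = Nat.card F ^ 2 := by
    rw [Nat.card_congr (eqv h), Nat.card_fun, Nat.card_eq_fintype_card (α := Fin 2), Fintype.card_fin]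
  have hsm : ∀ g, ∃ σ a b d, Sm (rho h hA g) σ a b d := by
    intro g
    obtain ⟨σ, a, b, d, h1⟩ := h.semi g (hAS g.2) (hA g.2)
    refine ⟨σ, a, b, d, fun x => ?_⟩
    rw [rho_apply, h1 _ ((eqv h).symm x).2, show e ((eqv h).symm x : G) = x from e_symm h x]
  have hsq : ∀ g x, rho h hA g (rho h hA g x) = x := by
    intro g x
    have h1 : rho h hA (g * g) x = x := by
      refine (rho_fix h hA _ x).2 ?_
      have h3 := h2 g g.2
      rw [pow_two] at h3
      rw [Subgroup.coe_mul, ← mem_centralizer_iff.1 h3 _ ((eqv h).symm x).2, mul_inv_cancel_right]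
    rw [map_mul] at h1
    exact h1
  obtain ⟨h3, h4⟩ := semi_cnt (rho h hA) hsm hsq
  rw [hr, hf] at h3 h4
  have h5 := relIndex_card (A := N) (C := centralizer (A : Set G))
  rw [hN] at h5
  have h6 := h4 (le_antisymm h3 (by
    rw [h5, mul_comm]
    exact Nat.mul_le_mul_right _ hoff))
  intro a ha
  rw [mem_centralizer_iff]
  intro v hv
  obtain ⟨hvN, hv1⟩ := (h.line v).1 hv
  have h7 : e v = ![e v 0, 0] := by
    funext i
    fin_cases i
    · rfl
    · exact hv1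
  have h8 : ((eqv h).symm (e v) : G) = v := by
    have := (eqv h).symm_apply_apply ⟨v, hvN⟩
    exact congrArg Subtype.val this
  have h9 : rho h hA ⟨a, ha⟩ (e v) = e v := by rw [h7]; exact h6 _ _
  have h10 := (rho_fix h hA ⟨a, ha⟩ _).1 h9
  rw [h8] at h10
  calc v * a = (a * v * a⁻¹) * a := by rw [h10]
    _ = a * v := by group

end line

section tfm

variable {ι : Type v} [Finite G] {S : Sylow 2 G} {V : Subgroup G} {N l E : ι → Subgroup G}

theorem relIndex_cj' (g : G) (A B : Subgroup G) : (cj g A).relIndex (cj g B) = A.relIndex B :=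
  Subgroup.relIndex_map_map_of_injective _ _ (MulAut.conj g).injective

/-- `Tf` from `TFm` -/
theorem toTf [Finite ι] (h : TFm S V N l E) : Tf S V N l :=
  h.tf (fun g hg hgS => h.toBls.wc hg hgS) (fun x hx hxV b => TPerm.permX h.toBls hx hxV b)

variable [Finite ι] [Nonempty ι]

/-- `O₂(X_ij) ≤ T` -/
theorem oT (h : TFm S V N l E) (i j : ι) : o2 (XF (TAct.FF (S : Subgroup G) N l) i j) ≤ TT (S : Subgroup G) N :=
  TBits.oT_of (toTf h).T2 (fun i => (toTf h).hTF i) (toTf h).F_le_N h.EN h.EC h.ord (toTf h).NT (toTf h).ker i j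

theorem T_le_CZ (h : TFm S V N l E) :
    TT (S : Subgroup G) N ≤ centralizer (zc (TT (S : Subgroup G) N) : Set G) := le_centralizer_zc _

theorem CZ_le_XF (h : TFm S V N l E) (i j : ι) :
    centralizer (zc (TT (S : Subgroup G) N) : Set G) ≤ XF (TAct.FF (S : Subgroup G) N l) i j := by
  intro x hx
  rw [XF, mem_centralizer_iff]
  rintro y ⟨n, -, -, hy⟩
  exact mem_centralizer_iff.1 hx y ((toTf h).F_le n hy)

/-- `X_ij` has characteristic 2 -/
theorem char2_XF (h : TFm S V N l E) (hc : IsCharacteristicTwoType G) (three : ∀ i j : ι, ∃ k, k ≠ i ∧ k ≠ j)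
    (i j : ι) : XF (TAct.FF (S : Subgroup G) N l) i j ⊓ centralizer (o2 (XF (TAct.FF (S : Subgroup G) N l) i j) : Set G) ≤
      o2 (XF (TAct.FF (S : Subgroup G) N l) i j) := by
  set F := TAct.FF (S : Subgroup G) N l with hF
  have e : XF F i j = centralizer ((closure {x | ∃ n, n ≠ i ∧ n ≠ j ∧ x ∈ F n} : Subgroup G) : Set G) :=
    (centralizer_closure _).symm
  have hle : closure {x | ∃ n, n ≠ i ∧ n ≠ j ∧ x ∈ F n} ≤ TT (S : Subgroup G) N := by
    rw [closure_le]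
    rintro _ ⟨n, -, -, hx⟩
    exact zc_le _ ((toTf h).F_le n hx)
  rw [e]
  refine Cfsg.Agent.Omega.NOne.LemmaT.char2_centralizer hc ((toTf h).T2.to_le hle) ?_
  obtain ⟨m, hl1, hl2⟩ := three i j
  intro e1
  apply (toTf h).ne m
  rw [eq_bot_iff, ← e1]
  exact fun x hx => subset_closure ⟨m, hl1, hl2, hx⟩

/-- `⟨Ω₁Z(T)^(X_ij)⟩ ≤ Ω₁Z(O₂(X_ij))` -/
theorem XS_le_zc (h : TFm S V N l E) (hc : IsCharacteristicTwoType G) (three : ∀ i j : ι, ∃ k, k ≠ i ∧ k ≠ j)
    (i j : ι) : XS (zc (TT (S : Subgroup G) N)) (XF (TAct.FF (S : Subgroup G) N l) i j) ≤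
      zc (o2 (XF (TAct.FF (S : Subgroup G) N l) i j)) := by
  have h1 : zc (TT (S : Subgroup G) N) ≤ centralizer (o2 (XF (TAct.FF (S : Subgroup G) N l) i j) : Set G) :=
    comm_symm ((oT h i j).trans (T_le_CZ h))
  have h2 : zc (TT (S : Subgroup G) N) ≤ zc (o2 (XF (TAct.FF (S : Subgroup G) N l) i j)) := by
    intro x hx
    have h3 : x ∈ o2 (XF (TAct.FF (S : Subgroup G) N l) i j) :=
      char2_XF h hc three i j ⟨((zc_le _).trans ((T_le_CZ h).trans (CZ_le_XF h i j))) hx, h1 hx⟩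
    exact MinSimple.VModule.mem_zc.2 ⟨h3, fun y hy => mem_centralizer_iff.1 (h1 hx) y hy,
      MinSimple.VModule.zc_sq _ x hx⟩
  exact XS_le_of h2 ((MinSimple.VModule.le_normalizer_o2 _).trans (MinSimple.VModule.normalizer_le_normalizer_zc _))

/-- `⟨Ω₁Z(T)^(X_ij)⟩ ≤ O` -/
theorem XF_le_O (h : TFm S V N l E) (hc : IsCharacteristicTwoType G) (three : ∀ i j : ι, ∃ k, k ≠ i ∧ k ≠ j)
    (i j : ι) : XS (zc (TT (S : Subgroup G) N)) (XF (TAct.FF (S : Subgroup G) N l) i j) ≤ OT (TT (S : Subgroup G) N) := by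
  refine (XS_le_zc h hc three i j).trans ((zc_le _).trans ?_)
  exact le_o2 ((oT h i j).trans (T_le_CZ h)) (o2_isPGroup _) ((CZ_le_XF h i j).trans (le_normalizer_o2 _))

theorem YY_le_XF' (j i : ι) (F : ι → Subgroup G) : YY F j ≤ XF F i j := by
  rw [EDel.ThmU.XF_comm]
  exact centralizer_le fun _ ⟨n, h1, _, h3⟩ => ⟨n, h1, h3⟩

theorem YY_le_XF'' (j i : ι) (F : ι → Subgroup G) : YY F j ≤ XF F j i :=
  centralizer_le fun _ ⟨n, h1, _, h3⟩ => ⟨n, h1, h3⟩

/-- `N_b ≤ ⟨Ω₁Z(T)^(X_ij)⟩`, `b ∈ {i, j}` -/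
theorem N_le (h : TFm S V N l E) (b i j : ι) (hb : b = i ∨ b = j) :
    N b ≤ XS (zc (TT (S : Subgroup G) N)) (XF (TAct.FF (S : Subgroup G) N l) i j) := by
  have h1 : N b ≤ XS (TAct.FF (S : Subgroup G) N l b) (YY (TAct.FF (S : Subgroup G) N l) b) :=
    TBits.VX_of (toTf h).F_le_N h.EC b (h.irr b _ ((toTf h).F_le_N b) ((toTf h).ne b))
  have h2 : YY (TAct.FF (S : Subgroup G) N l) b ≤ XF (TAct.FF (S : Subgroup G) N l) i j := by
    rcases hb with rfl | rfl
    · exact YY_le_XF'' b j _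
    · exact YY_le_XF' b i _
  exact h1.trans (XS_le fun _ hr _ ha => conj_mem_XS (h2 hr) ((toTf h).F_le b ha))

/-- **`N_b^x ≤ ⟨Ω₁Z(T)^(X_ij)⟩`, `x ∈ Y_j`** -/
theorem cj_N_le (h : TFm S V N l E) {b i j : ι} (hb : b = i ∨ b = j) {x : G}
    (hx : x ∈ YY (TAct.FF (S : Subgroup G) N l) j) :
    cj x (N b) ≤ XS (zc (TT (S : Subgroup G) N)) (XF (TAct.FF (S : Subgroup G) N l) i j) := by
  have h1 := cj_mono x (N_le h b i j hb)
  rwa [cj_eq_of_mem_normalizer (le_normalizer_XS _ _ (YY_le_XF' j i _ hx))] at h1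

/-- **`N_b^x ≤ O`, `x ∈ Y_j`** -/
theorem cj_le_O (h : TFm S V N l E) (hc : IsCharacteristicTwoType G) (three : ∀ i j : ι, ∃ k, k ≠ i ∧ k ≠ j)
    {j : ι} {x : G} (hx : x ∈ YY (TAct.FF (S : Subgroup G) N l) j) (b : ι) :
    cj x (N b) ≤ OT (TT (S : Subgroup G) N) :=
  (cj_N_le h (Or.inl rfl) hx).trans (XF_le_O h hc three b j)

theorem sqN (h : TFm S V N l E) (b : ι) {v : G} (hv : v ∈ N b) : v ^ 2 = 1 := h.sq v ((toTf h).NV b hv)

/-- **`A ∈ 𝒜(O)`, `x ∈ Y_j`, `A^x ≤ T` : `A^x` centralises the lines** -/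
theorem root (h : TFm S V N l E) (hc : IsCharacteristicTwoType G) (three : ∀ i j : ι, ∃ k, k ≠ i ∧ k ≠ j)
    {j : ι} {x : G} (hx : x ∈ YY (TAct.FF (S : Subgroup G) N l) j) {A : Subgroup G}
    (hA : Mx (OT (TT (S : Subgroup G) N)) A) (hxA : cj x A ≤ TT (S : Subgroup G) N) (b : ι) :
    cj x A ≤ centralizer (l b : Set G) := by
  obtain ⟨F', _, _, _, e, he⟩ := h.nat b
  have hN : cj x A ≤ normalizer (N b : Set G) := hxA.trans (inf_le_right.trans (iInf_le _ b))
  refine line_cent he (hxA.trans inf_le_left) hN (fun a ha => ?_) ?_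
  · have h1 := hA.sq _ (mem_cj.1 ha)
    have h2 : a ^ 2 = 1 := by
      have e1 : a = x * (x⁻¹ * a * x) * x⁻¹ := by group
      rw [e1, conj_pow, h1, mul_one, mul_inv_cancel]
    rw [h2]; exact one_mem _
  · have h1 := hA.thom (N := cj x⁻¹ (N b)) (cj_le_O h hc three (inv_mem hx) b) (fun y hy => by
      have h2 := sqN h b (mem_cj.1 hy)
      rw [inv_inv] at h2
      have e1 : y = x⁻¹ * (x * y * x⁻¹) * x := by group
      have h3 : (x⁻¹ * (x * y * x⁻¹) * x⁻¹⁻¹) ^ 2 = 1 := by rw [conj_pow, h2, mul_one, mul_inv_cancel]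
      rw [inv_inv] at h3
      rwa [← e1] at h3)
    rw [← relIndex_cj' x, ← relIndex_cj' x (centralizer (cj x⁻¹ (N b) : Set G)), cj_centralizer, cj_centralizer,
      cj_cj_inv] at h1
    exact h1

/-- **The passive case**: all members of `𝒜(O)` lie in `O₂(P)`. -/
theorem passive (h : TFm S V N l E) (hc : IsCharacteristicTwoType G) (three : ∀ i j : ι, ∃ k, k ≠ i ∧ k ≠ j)
    (zJ : ∀ x ∈ OT (TT (S : Subgroup G) N), x ^ 2 = 1 →
      (∀ A, Mx (OT (TT (S : Subgroup G) N)) A → x ∈ centralizer (A : Set G)) → x ∈ ⨆ b, l b)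
    {j : ι} {P : Subgroup G} (hP : IsMinPar (TT (S : Subgroup G) N) P) (hPX : P ≤ YY (TAct.FF (S : Subgroup G) N l) j)
    (hJ : ∀ A, Mx (OT (TT (S : Subgroup G) N)) A → A ≤ o2 P) :
    P ≤ normalizer ((⨆ b, l b : Subgroup G) : Set G) := by
  have hO : o2 P ≤ TT (S : Subgroup G) N := o2_le_of_sylow (toTf h).T2 ((toTf h).syl_sub hP.le hPX)
  have key : ∀ p ∈ P, cj p⁻¹ (⨆ b, l b) ≤ ⨆ b, l b := by
    intro p hp
    have h0 : ∀ b, cj p⁻¹ (l b) ≤ ⨆ b, l b := by
      intro b y hy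
      have hy' : p * y * p⁻¹ ∈ l b := by
        have := mem_cj.1 hy
        rwa [inv_inv] at this
      have hyN : y ∈ cj p⁻¹ (N b) := cj_mono _ (h.lN b) hy
      refine zJ y (cj_le_O h hc three (inv_mem (hPX hp)) b hyN) ?_ fun A hA => ?_
      · have h2 := sqN h b (h.lN b hy')
        have e1 : p * y * p⁻¹ = p * y * p⁻¹ := rfl
        rw [conj_pow] at h2
        have h3 : y ^ 2 = p⁻¹ * (p * y ^ 2 * p⁻¹) * p := by group
        rw [h3, h2]; group
      · have h1 : cj p A ≤ TT (S : Subgroup G) N := by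
          have h2 := cj_mono p (hJ A hA)
          rw [cj_eq_of_mem_normalizer (le_normalizer_o2 P hp)] at h2
          exact h2.trans hO
        have h3 := root h hc three (hPX hp) hA h1 b
        rw [mem_centralizer_iff]
        intro a ha
        have h4 : p * a * p⁻¹ ∈ cj p A := mem_cj.2 (by
          have e1 : p⁻¹ * (p * a * p⁻¹) * p = a := by group
          rwa [e1])
        have h5 := mem_centralizer_iff.1 (h3 h4) _ hy'
        have e2 : a * y = p⁻¹ * ((p * a * p⁻¹) * (p * y * p⁻¹)) * p := by group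
        rw [e2, ← h5]; group
    rw [cj, Subgroup.map_iSup]
    exact iSup_le h0
  intro p hp
  refine Cfsg.Agent.ZN.ChoiceBase.mem_normalizer_of_cj_le ?_
  have h1 := key p⁻¹ (inv_mem hp)
  rwa [inv_inv] at h1

/-- **The passive case**: `P` normalises all blocks. -/
theorem passive_par (h : TFm S V N l E) (hc : IsCharacteristicTwoType G) (three : ∀ i j : ι, ∃ k, k ≠ i ∧ k ≠ j)
    (zJ : ∀ x ∈ OT (TT (S : Subgroup G) N), x ^ 2 = 1 →
      (∀ A, Mx (OT (TT (S : Subgroup G) N)) A → x ∈ centralizer (A : Set G)) → x ∈ ⨆ b, l b)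
    {j : ι} {P : Subgroup G} (hP : IsMinPar (TT (S : Subgroup G) N) P) (hPX : P ≤ YY (TAct.FF (S : Subgroup G) N l) j)
    (hJ : ∀ A, Mx (OT (TT (S : Subgroup G) N)) A → A ≤ o2 P)
    (hm : ¬ P ≤ centralizer (TAct.FF (S : Subgroup G) N l j : Set G)) (b : ι) : P ≤ normalizer (N b : Set G) :=
  (toTf h).norm_of_R hP hPX (passive h hc three zJ hP hPX hJ) hm b

end tfm

end Cfsg.Agent.Omega.NOThreeL.RWide.ParQ

end
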